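import Cfsg.Agent.Lib.Classical.Symplectic
import Cfsg.Agent.Lib.Transvec.Basic
import Cfsg.Prelude.Def_StandardType
import Cfsg.Prelude.Def_LieTypeDatum
import Cfsg.Prelude.Def_KGroupFacts
import Mathlib.GroupTheory.Sylow

/-!
The action of `Sp_{2m}` on its space, lifting of `p`-subgroups of `PSp_{2m}`, and the automorphisms induced by
semilinear similitudes.
-/

set_option autoImplicit false

namespace Cfsg.Agent.AutPSp

open Matrix

variable {F : Type*} [Field F] {m : ℕ}

local notation "Vm" => Fin m ⊕ Fin m → F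
local notation "Mm" => Matrix (Fin m ⊕ Fin m) (Fin m ⊕ Fin m) F
local notation "Spm" => Matrix.symplecticGroup (Fin m) F
local notation "PSpm" => Cfsg.PSp m F
local notation "GSpm" => Cfsg.GSp m F
local notation "GLm" => GL (Fin m ⊕ Fin m) F

/-- The alternating form. -/
abbrev B (x y : Vm) : F := Cfsg.sympForm m F x y

/-! ### the form -/

theorem add_left (x y v : Vm) : B (x + y) v = B x v + B y v := by
  simp only [B, ← ClassicalSp.spBilin_apply, map_add, LinearMap.add_apply]

theorem add_right (v x y : Vm) : B v (x + y) = B v x + B v y := by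
  simp only [B, ← ClassicalSp.spBilin_apply, map_add]

theorem smul_left (c : F) (x v : Vm) : B (c • x) v = c * B x v := by
  simp only [B, ← ClassicalSp.spBilin_apply, map_smul, LinearMap.smul_apply, smul_eq_mul]

theorem smul_right (c : F) (v x : Vm) : B v (c • x) = c * B v x := by
  simp only [B, ← ClassicalSp.spBilin_apply, map_smul, smul_eq_mul]

theorem sub_left (x y v : Vm) : B (x - y) v = B x v - B y v := by
  simp only [B, ← ClassicalSp.spBilin_apply, map_sub, LinearMap.sub_apply]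

theorem sub_right (v x y : Vm) : B v (x - y) = B v x - B v y := by
  simp only [B, ← ClassicalSp.spBilin_apply, map_sub]

theorem zero_left (v : Vm) : B 0 v = 0 := by
  simp only [B, ← ClassicalSp.spBilin_apply, map_zero, LinearMap.zero_apply]

theorem zero_right (v : Vm) : B v 0 = 0 := by
  simp only [B, ← ClassicalSp.spBilin_apply, map_zero]

theorem self_zero (v : Vm) : B v v = 0 := by
  simpa [B, ← ClassicalSp.spBilin_apply] using ClassicalSp.spBilin_isAlt v

theorem swap (v w : Vm) : B w v = -B v w := by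
  simpa only [B, ← ClassicalSp.spBilin_apply] using
    AltForm.swap (ClassicalSp.spBilin_isAlt (m := m) (F := F)) v w

theorem eq_zero_comm {x y : Vm} : B x y = 0 ↔ B y x = 0 := by rw [swap, neg_eq_zero]

theorem exists_one {x : Vm} (hx : x ≠ 0) : ∃ w, B w x = 1 := by
  obtain ⟨w, hw⟩ := AltForm.exists_eq_one (ClassicalSp.spBilin_nondeg (m := m) (F := F)) hx
  rw [ClassicalSp.spBilin_apply] at hw
  exact ⟨(-1 : F) • w, by rw [smul_left, swap, show B x w = 1 from hw]; ring⟩

theorem nondeg {v : Vm} (hv : ∀ w, B v w = 0) : v = 0 := by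
  by_contra h0
  obtain ⟨w, hw⟩ := exists_one h0
  rw [swap, hv, neg_zero] at hw
  exact zero_ne_one hw

theorem eq_of_forall {x y : Vm} (H : ∀ w, B x w = B y w) : x = y :=
  sub_eq_zero.1 (nondeg fun w => by rw [sub_left, H, sub_self])

/-- The functional `x ↦ B x v`. -/
def form (v : Vm) : Module.Dual F Vm where
  toFun x := B x v
  map_add' x y := add_left x y v
  map_smul' c x := by simpa using smul_left c x v

theorem form_apply (v x : Vm) : form v x = B x v := rfl

/-! ### the action -/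

/-- The action of a symplectic matrix. -/
def act (s : Spm) (x : Vm) : Vm := (s : Mm) *ᵥ x

theorem act_mul (s t : Spm) (x : Vm) : act (s * t) x = act s (act t x) := by
  simp [act, Matrix.mulVec_mulVec]

theorem act_one (x : Vm) : act (1 : Spm) x = x := by simp [act]

theorem act_inv_act (s : Spm) (x : Vm) : act s⁻¹ (act s x) = x := by
  rw [← act_mul, inv_mul_cancel, act_one]

theorem act_act_inv (s : Spm) (x : Vm) : act s (act s⁻¹ x) = x := by
  rw [← act_mul, mul_inv_cancel, act_one]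

theorem act_add (s : Spm) (x y : Vm) : act s (x + y) = act s x + act s y := Matrix.mulVec_add _ _ _

theorem act_sub (s : Spm) (x y : Vm) : act s (x - y) = act s x - act s y := Matrix.mulVec_sub _ _ _

theorem act_smul (s : Spm) (c : F) (x : Vm) : act s (c • x) = c • act s x := Matrix.mulVec_smul _ _ _

theorem act_zero (s : Spm) : act s (0 : Vm) = 0 := Matrix.mulVec_zero _

theorem act_pres (s : Spm) (x y : Vm) : B (act s x) (act s y) = B x y :=
  (ClassicalSp.mem_iff_preserves _).1 s.2 x y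

theorem act_inj (s : Spm) {x y : Vm} (e : act s x = act s y) : x = y := by
  rw [← act_inv_act s x, e, act_inv_act]

theorem act_ne_zero (s : Spm) {x : Vm} (hx : x ≠ 0) : act s x ≠ 0 := fun e =>
  hx (act_inj s (e.trans (act_zero s).symm))

theorem ext_act {s t : Spm} (H : ∀ x, act s x = act t x) : s = t :=
  Subtype.ext (Matrix.ext_of_mulVec_single fun i => H _)

theorem exists_Sp (M : Mm) (hM : ∀ x y, B (M *ᵥ x) (M *ᵥ y) = B x y) :
    ∃ s : Spm, ∀ x, act s x = M *ᵥ x :=
  ⟨⟨M, (ClassicalSp.mem_iff_preserves _).2 hM⟩, fun _ => rfl⟩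

/-- A symplectic transvection. -/
theorem exists_tv (c : Vm) (l : F) : ∃ s : Spm, ∀ x, act s x = x + (l * B x c) • c :=
  ⟨⟨_, ClassicalSp.sympTransvection_mem c l⟩, fun x => ClassicalSp.sympTransvection_mulVec c l x⟩

theorem exists_map {u v : Vm} (hu : u ≠ 0) (hv : v ≠ 0) : ∃ s : Spm, act s u = v :=
  ClassicalSp.exists_map_vec hu hv

/-! ### the centre and `p`-elements -/

theorem mem_center_iff (s : Spm) :
    s ∈ Subgroup.center Spm ↔ ∃ c : F, ∀ x, act s x = c • x := by
  constructor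
  · intro hs
    have hline : ∀ w : Vm, w ≠ 0 → ∃ c : F, act s w = c • w := by
      intro w hw
      obtain ⟨t, ht⟩ := exists_tv w 1
      obtain ⟨x, hx⟩ := exists_one hw
      have e : act (s * t) x = act (t * s) x := by rw [Subgroup.mem_center_iff.1 hs t]
      rw [act_mul, act_mul, ht, ht, act_add, act_smul, one_mul, one_mul, hx, one_smul,
        add_right_inj] at e
      exact ⟨_, e⟩
    by_cases hV : ∀ w : Vm, w = 0
    · exact ⟨1, fun x => by rw [hV (act s x), hV x, smul_zero]⟩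
    push Not at hV
    obtain ⟨u, hu⟩ := hV
    obtain ⟨c, hc⟩ := hline u hu
    refine ⟨c, fun x => ?_⟩
    rcases eq_or_ne x 0 with rfl | hx
    · rw [act_zero, smul_zero]
    obtain ⟨t, ht⟩ := exists_map hu hx
    rw [← ht, ← act_mul, ← Subgroup.mem_center_iff.1 hs t, act_mul, hc, act_smul]
  · rintro ⟨c, hc⟩
    exact Subgroup.mem_center_iff.2 fun t => ext_act fun x => by
      rw [act_mul, act_mul, hc, hc, act_smul]

theorem act_pow_scalar {s : Spm} {c : F} (hc : ∀ x, act s x = c • x) (k : ℕ) (x : Vm) :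
    act (s ^ k) x = c ^ k • x := by
  induction k with
  | zero => rw [pow_zero, act_one, pow_zero, one_smul]
  | succ k ih => rw [pow_succ', act_mul, ih, hc, smul_smul, mul_comm, pow_succ]

theorem eq_one_of_pow_char (p : ℕ) [Fact p.Prime] [CharP F p] {c : F} {T : ℕ}
    (h : c ^ p ^ T = 1) : c = 1 :=
  sub_eq_zero.1 (eq_zero_of_pow_eq_zero
    (show (c - 1) ^ p ^ T = 0 by rw [sub_pow_char_pow, h, one_pow, sub_self]))

/-- Central `p`-elements are trivial. -/
theorem eq_one_of_central (p : ℕ) [Fact p.Prime] [CharP F p] {z : Spm}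
    (hz : z ∈ Subgroup.center Spm) {T : ℕ} (hpow : z ^ p ^ T = 1) : z = 1 := by
  obtain ⟨c, hc⟩ := (mem_center_iff z).1 hz
  refine ext_act fun x => ?_
  rcases eq_or_ne x 0 with rfl | hx
  · rw [act_zero, act_zero]
  have h1 := act_pow_scalar hc (p ^ T) x
  rw [hpow, act_one] at h1
  have hc1 : c = 1 := eq_one_of_pow_char p (T := T) (smul_left_injective F hx (by simpa using h1.symm))
  rw [hc, hc1, one_smul, act_one]

/-- `p`-elements with the same class are equal. -/
theorem eq_of_mk_eq (p : ℕ) [Fact p.Prime] [CharP F p] {u v : Spm} {a b : ℕ} (hu : u ^ p ^ a = 1)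
    (hv : v ^ p ^ b = 1) (e : (QuotientGroup.mk u : PSpm) = QuotientGroup.mk v) : u = v := by
  have hz : u⁻¹ * v ∈ Subgroup.center Spm := QuotientGroup.eq.1 e
  have hcomm : u * (u⁻¹ * v) = u⁻¹ * v * u := Subgroup.mem_center_iff.1 hz u
  have h1 : Commute u v := by
    show u * v = v * u
    calc u * v = u * (u * (u⁻¹ * v)) := by group
      _ = u * (u⁻¹ * v * u) := by rw [hcomm]
      _ = v * u := by group
  refine inv_mul_eq_one.1 (eq_one_of_central p hz (T := a + b) ?_)
  rw [h1.inv_left.mul_pow, inv_pow, pow_add, pow_mul, hu, one_pow, inv_one, one_mul, mul_comm, pow_mul,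
    hv, one_pow]

/-- `p`-subgroups of the quotient lift. -/
theorem exists_lift [Finite F] (p : ℕ) [Fact p.Prime] (H : Subgroup PSpm) (hH : IsPGroup p H) :
    ∃ K : Subgroup Spm, IsPGroup p K ∧ K.map (QuotientGroup.mk' (Subgroup.center Spm)) = H := by
  obtain ⟨C', hC⟩ : ∃ C' : Subgroup Spm, C' = H.comap (QuotientGroup.mk' (Subgroup.center Spm)) :=
    ⟨_, rfl⟩
  have hle : ∀ x : C', QuotientGroup.mk' (Subgroup.center Spm) (x : Spm) ∈ H := fun x =>
    Subgroup.mem_comap.1 (by rw [← hC]; exact x.2)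
  let f : C' →* H := ((QuotientGroup.mk' (Subgroup.center Spm)).comp C'.subtype).codRestrict H hle
  have hf : Function.Surjective f := by
    rintro ⟨y, hy⟩
    obtain ⟨x, rfl⟩ := QuotientGroup.mk'_surjective (Subgroup.center Spm) y
    exact ⟨⟨x, hC ▸ Subgroup.mem_comap.2 hy⟩, rfl⟩
  obtain ⟨P⟩ : Nonempty (Sylow p C') := Sylow.nonempty
  have hidx : ((P : Subgroup C').map f).index = 1 := by
    have h1 : ¬ p ∣ ((P : Subgroup C').map f).index := fun hd =>
      P.not_dvd_index (hd.trans ((P : Subgroup C').index_map_dvd hf))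
    obtain ⟨k, hk⟩ := hH.index ((P : Subgroup C').map f)
    rcases k with _ | k
    · simpa using hk
    · exact absurd (hk ▸ dvd_pow_self p k.succ_ne_zero) h1
  rw [Subgroup.index_eq_one] at hidx
  refine ⟨(P : Subgroup C').map C'.subtype, P.isPGroup'.map _, ?_⟩
  rw [Subgroup.map_map]
  have hcomp : (QuotientGroup.mk' (Subgroup.center Spm)).comp C'.subtype = H.subtype.comp f := rfl
  rw [hcomp, ← Subgroup.map_map, hidx, ← MonoidHom.range_eq_map, Subgroup.range_subtype]

/-! ### semilinear similitudes -/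

/-- The value of the semilinear map `x ↦ g τ(x)`. -/
def sm (g : GLm) (τ : F ≃+* F) (x : Vm) : Vm := (g : Mm) *ᵥ (τ ∘ x)

theorem sm_smul (g : GLm) (τ : F ≃+* F) (c : F) (x : Vm) : sm g τ (c • x) = τ c • sm g τ x := by
  rw [sm, sm, ← Matrix.mulVec_smul]
  congr 1
  funext i
  simp

theorem sm_add (g : GLm) (τ : F ≃+* F) (x y : Vm) : sm g τ (x + y) = sm g τ x + sm g τ y := by
  rw [sm, sm, sm, ← Matrix.mulVec_add]
  congr 1
  funext i
  simp

theorem sm_zero (g : GLm) (τ : F ≃+* F) : sm g τ (0 : Vm) = 0 := by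
  rw [← zero_smul F (0 : Vm), sm_smul, map_zero, zero_smul, zero_smul]

theorem sm_inj (g : GLm) (τ : F ≃+* F) {x y : Vm} (e : sm g τ x = sm g τ y) : x = y := by
  have := Matrix.mulVec_injective_iff_isUnit.2 g.isUnit e
  exact funext fun i => τ.injective (congrFun this i)

theorem comp_symm (τ : F ≃+* F) : ⇑τ ∘ ⇑τ.symm = id := funext τ.apply_symm_apply

theorem sm_surj (g : GLm) (τ : F ≃+* F) (x : Vm) : ∃ y, sm g τ y = x :=
  ⟨τ.symm ∘ (((g⁻¹ : GLm) : Mm) *ᵥ x), by
    rw [sm, ← Function.comp_assoc, comp_symm, Function.id_comp, Matrix.mulVec_mulVec, ← Units.val_mul,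
      mul_inv_cancel, Units.val_one, Matrix.one_mulVec]⟩

theorem map_mulVec_eq (τ : F ≃+* F) (M : Mm) (x : Vm) : (τ : F → F) ∘ (M *ᵥ x) = M.map τ *ᵥ (τ ∘ x) :=
  funext fun i => RingHom.map_mulVec τ.toRingHom M x i

theorem B_map (τ : F ≃+* F) (x y : Vm) : B (τ ∘ x) (τ ∘ y) = τ (B x y) := by
  have hJ : (Matrix.J (Fin m) F).map τ = Matrix.J (Fin m) F := by
    simp [Matrix.J, Matrix.fromBlocks_map, Matrix.map_one _ (map_zero τ) (map_one τ),
      Matrix.map_neg]
  show (τ ∘ x) ⬝ᵥ (Matrix.J (Fin m) F *ᵥ (τ ∘ y)) = τ (x ⬝ᵥ (Matrix.J (Fin m) F *ᵥ y))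
  rw [← hJ, ← map_mulVec_eq, hJ]
  simp [dotProduct, map_sum]

theorem exists_mult {g : GLm} (hg : g ∈ GSpm) :
    ∃ c : F, c ≠ 0 ∧ ∀ u v, B ((g : Mm) *ᵥ u) ((g : Mm) *ᵥ v) = c * B u v := by
  obtain ⟨c, hc⟩ := hg
  exact ⟨c, c.ne_zero, hc⟩

theorem sm_pres {g : GLm} (hg : g ∈ GSpm) (τ : F ≃+* F) :
    ∃ c : F, c ≠ 0 ∧ ∀ x y, B (sm g τ x) (sm g τ y) = c * τ (B x y) := by
  obtain ⟨c, hc0, hc⟩ := exists_mult hg
  exact ⟨c, hc0, fun x y => by rw [sm, sm, hc, B_map]⟩

/-- Conjugation by a semilinear similitude on `Sp`. -/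
def spConj (g : GSpm) (τ : F ≃+* F) : Spm →* Spm where
  toFun s := ⟨((g : GLm) : Mm) * (s : Mm).map τ * (((g : GLm)⁻¹ : GLm) : Mm), by
    refine (ClassicalSp.mem_iff_preserves _).2 fun u v => ?_
    obtain ⟨u', rfl⟩ := sm_surj (g : GLm) τ u
    obtain ⟨v', rfl⟩ := sm_surj (g : GLm) τ v
    have key : ∀ w : Vm, (((g : GLm) : Mm) * (s : Mm).map τ * (((g : GLm)⁻¹ : GLm) : Mm)) *ᵥ
        sm (g : GLm) τ w = sm (g : GLm) τ (act s w) := fun w => by
      rw [sm, sm, act, map_mulVec_eq, Matrix.mulVec_mulVec, Matrix.mulVec_mulVec, mul_assoc,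
        ← Units.val_mul, inv_mul_cancel, Units.val_one, mul_one]
    rw [key, key]
    obtain ⟨c, -, hc⟩ := sm_pres g.2 τ
    rw [show Cfsg.sympForm m F _ _ = c * τ (B (act s u') (act s v')) from hc _ _, act_pres]
    exact (hc _ _).symm⟩
  map_one' := Subtype.ext (by
    show ((g : GLm) : Mm) * ((1 : Mm)).map τ * _ = 1
    rw [Matrix.map_one _ (map_zero τ) (map_one τ), mul_one, ← Units.val_mul, mul_inv_cancel,
      Units.val_one])
  map_mul' s t := Subtype.ext (by
    show ((g : GLm) : Mm) * (((s * t : Spm) : Mm)).map τ * _ =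
      (((g : GLm) : Mm) * (s : Mm).map τ * _) * (((g : GLm) : Mm) * (t : Mm).map τ * _)
    rw [Submonoid.coe_mul, Matrix.map_mul]
    simp [mul_assoc])

theorem spConj_coe (g : GSpm) (τ : F ≃+* F) (s : Spm) : (spConj g τ s : Mm) =
    ((g : GLm) : Mm) * (s : Mm).map τ * (((g : GLm)⁻¹ : GLm) : Mm) := rfl

theorem act_spConj (g : GSpm) (τ : F ≃+* F) (s : Spm) (x : Vm) :
    act (spConj g τ s) (sm (g : GLm) τ x) = sm (g : GLm) τ (act s x) := by
  rw [act, spConj_coe, sm, sm, act, map_mulVec_eq, Matrix.mulVec_mulVec, Matrix.mulVec_mulVec,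
    mul_assoc, ← Units.val_mul, inv_mul_cancel, Units.val_one, mul_one]

/-- Entrywise field automorphism on `GSp`. -/
def mapGSp (τ : F ≃+* F) (g : GSpm) : GSpm :=
  ⟨Matrix.GeneralLinearGroup.map τ.toRingHom (g : GLm), by
    obtain ⟨c, hc0, hc⟩ := exists_mult g.2
    refine ⟨Units.mk0 (τ c) ((map_ne_zero τ).2 hc0), fun u v => ?_⟩
    have hu : ∀ w : Vm, ((Matrix.GeneralLinearGroup.map τ.toRingHom (g : GLm) : GLm) : Mm) *ᵥ w =
        (τ : F → F) ∘ (((g : GLm) : Mm) *ᵥ (τ.symm ∘ w)) := fun w => by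
      rw [map_mulVec_eq, ← Function.comp_assoc, comp_symm, Function.id_comp]
      rfl
    show B _ _ = _
    rw [hu, hu, B_map, hc, map_mul, ← B_map τ (τ.symm ∘ u) (τ.symm ∘ v), ← Function.comp_assoc,
      ← Function.comp_assoc, comp_symm, Function.id_comp, Function.id_comp]
    rfl⟩

theorem sm_comp (g g' : GSpm) (τ τ' : F ≃+* F) (x : Vm) :
    sm (g : GLm) τ (sm (g' : GLm) τ' x) = sm ((g * mapGSp τ g' : GSpm) : GLm) (τ * τ') x := by
  rw [sm, sm, sm, map_mulVec_eq, Matrix.mulVec_mulVec]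
  rfl

theorem sm_one (x : Vm) : sm ((1 : GSpm) : GLm) 1 x = x := by
  simp [sm, show ((1 : F ≃+* F) : F → F) = id from rfl]

theorem spConj_comp (g g' : GSpm) (τ τ' : F ≃+* F) (s : Spm) :
    spConj g τ (spConj g' τ' s) = spConj (g * mapGSp τ g') (τ * τ') s := by
  refine ext_act fun x => ?_
  obtain ⟨y, rfl⟩ := sm_surj ((g * mapGSp τ g' : GSpm) : GLm) (τ * τ') x
  conv_lhs => rw [← sm_comp, act_spConj, act_spConj, sm_comp]
  rw [act_spConj]

theorem spConj_one (s : Spm) : spConj 1 1 s = s := ext_act fun x => by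
  conv_lhs => rw [← sm_one x, act_spConj, sm_one]

theorem exists_inverse (g : GSpm) (τ : F ≃+* F) : ∃ g' : GSpm,
    g * mapGSp τ g' = 1 ∧ g' * mapGSp τ⁻¹ g = 1 := by
  refine ⟨(mapGSp τ⁻¹ g)⁻¹, ?_, inv_mul_cancel _⟩
  refine Subtype.ext (Units.ext ?_)
  show ((g : GLm) : Mm) * ((Matrix.GeneralLinearGroup.map τ.toRingHom
    (Matrix.GeneralLinearGroup.map (τ⁻¹ : F ≃+* F).toRingHom (g : GLm))⁻¹ : GLm) : Mm) = 1
  rw [map_inv, show Matrix.GeneralLinearGroup.map τ.toRingHom
      (Matrix.GeneralLinearGroup.map (τ⁻¹ : F ≃+* F).toRingHom (g : GLm)) = (g : GLm) from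
    Units.ext (Matrix.ext fun i j => τ.apply_symm_apply _), ← Units.val_mul, mul_inv_cancel,
    Units.val_one]

/-- The automorphism of `Sp` induced by a semilinear similitude. -/
noncomputable def spAut (g : GSpm) (τ : F ≃+* F) : MulAut Spm :=
  MulEquiv.ofBijective (spConj g τ) <| by
    obtain ⟨g', h1, h2⟩ := exists_inverse g τ
    refine Function.bijective_iff_has_inverse.2 ⟨spConj g' τ⁻¹, fun s => ?_, fun s => ?_⟩
    · rw [spConj_comp, h2, inv_mul_cancel, spConj_one]
    · rw [spConj_comp, h1, mul_inv_cancel, spConj_one]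

/-- The automorphism of `PSp` induced by a semilinear similitude. -/
noncomputable def semi (g : GSpm) (τ : F ≃+* F) : MulAut PSpm :=
  QuotientGroup.congr _ _ (spAut g τ) (Subgroup.characteristic_iff_map_eq.1 inferInstance (spAut g τ))

@[simp] theorem semi_mk (g : GSpm) (τ : F ≃+* F) (s : Spm) :
    semi g τ (QuotientGroup.mk s : PSpm) = QuotientGroup.mk (spConj g τ s) := rfl

theorem semi_mul (g g' : GSpm) (τ τ' : F ≃+* F) :
    semi g τ * semi g' τ' = (semi (g * mapGSp τ g') (τ * τ') : MulAut PSpm) := MulEquiv.ext fun x => by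
  induction x using QuotientGroup.induction_on with
  | _ s => exact congrArg QuotientGroup.mk (spConj_comp g g' τ τ' s)

theorem semi_one : (semi 1 1 : MulAut PSpm) = 1 := MulEquiv.ext fun x => by
  induction x using QuotientGroup.induction_on with
  | _ s => exact congrArg QuotientGroup.mk (spConj_one s)

theorem semi_inverse (g : GSpm) (τ : F ≃+* F) : ∃ g' : GSpm,
    (semi g' τ⁻¹ * semi g τ : MulAut PSpm) = 1 := by
  obtain ⟨g', -, h2⟩ := exists_inverse g τ
  exact ⟨g', by rw [semi_mul, h2, inv_mul_cancel, semi_one]⟩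

theorem induced_semi (g : GSpm) (τ : F ≃+* F) :
    Cfsg.IsInducedBySemilinearPSp (g : GLm) τ (semi g τ : MulAut PSpm) := by
  intro s s' hs
  rw [semi_mk]
  exact congrArg QuotientGroup.mk (Subtype.ext hs.symm)

theorem semi_eq_of_induced (g : GSpm) (τ : F ≃+* F) {β : MulAut PSpm}
    (hβ : Cfsg.IsInducedBySemilinearPSp (g : GLm) τ β) : β = semi g τ :=
  MulEquiv.ext fun x => by
    induction x using QuotientGroup.induction_on with
    | _ s => exact hβ s (spConj g τ s) rfl

end Cfsg.Agent.AutPSp
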