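import Cfsg.Agent.Lib.AutPSp.Classes

/-!
Centralisers and split classes of the field automorphisms of `PSp_{2m}`.
-/

set_option autoImplicit false

namespace Cfsg.Agent.AutPSp

open Matrix

variable {F : Type*} [Field F] {m : ℕ}

local notation "Im" => Fin m ⊕ Fin m
local notation "Vm" => Fin m ⊕ Fin m → F
local notation "Mm" => Matrix (Fin m ⊕ Fin m) (Fin m ⊕ Fin m) F
local notation "GSpm" => Cfsg.GSp m F
local notation "GLm" => GL (Fin m ⊕ Fin m) F
local notation "PSpm" => Cfsg.PSp m F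

instance inn_normal : (Cfsg.Inn PSpm).Normal := by
  constructor
  rintro _ ⟨x, rfl⟩ α
  exact ⟨α x, MulEquiv.ext fun y => by simp⟩

theorem scG_injective (hm : 1 ≤ m) : Function.Injective (scG : Fˣ →* GSpm) := fun a b e => by
  have := congrArg (fun g : GSpm => ((g : GLm) : Mm) (Sum.inl ⟨0, hm⟩) (Sum.inl ⟨0, hm⟩)) e
  exact Units.ext (by simpa [scG_coe] using this)

variable [Fintype F] (hm : 2 ≤ m)
include hm

theorem commute_field_iff (g : GSpm) (σ : F ≃+* F) :
    Commute (conjHom g) (semi 1 σ : MulAut PSpm) ↔ ∃ c : Fˣ, g = scG c * mapGSp σ g := by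
  unfold Commute SemiconjBy
  rw [conjHom_apply, semi_mul_one, semi_mul, mul_one, one_mul, mul_one, semi_eq_semi hm]
  simp

theorem exists_fixed_of_commute {g : GSpm} {σ : F ≃+* F}
    (h' : Commute (conjHom g) (semi 1 σ : MulAut PSpm)) :
    ∃ (t : Fˣ) (g' : GSpm), mapGSp σ g' = g' ∧ g = scG t * g' := by
  obtain ⟨c, hc⟩ := (commute_field_iff hm g σ).1 h'
  have hit : ∀ k, g = scG
      (∏ i ∈ Finset.range k, Units.map (σ ^ i : F ≃+* F).toMonoidHom c) *
      mapGSp (σ ^ k) g := by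
    intro k
    induction k with
    | zero => simp [mapGSp_one]
    | succ k ih =>
      conv_lhs => rw [ih, hc, mapGSp_mul, mapGSp_scG]
      rw [Finset.prod_range_succ, map_mul scG, mul_assoc, pow_succ, mapGSp_comp]
  have hN : AutPSL.normHom σ c = 1 := by
    have := hit (orderOf σ)
    rw [pow_orderOf_eq_one, mapGSp_one, right_eq_mul, ← map_one scG] at this
    rw [AutPSL.normHom_eq]
    exact scG_injective (by omega) this
  obtain ⟨t₀, ht₀⟩ := AutPSL.exists_div_of_normHom_eq_one σ hN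
  have ht : (c : F) * σ (t₀ : F) = (t₀ : F) := congrArg Units.val ht₀
  refine ⟨t₀, scG t₀⁻¹ * g, ?_, by rw [← mul_assoc, ← map_mul, mul_inv_cancel, map_one, one_mul]⟩
  rw [mapGSp_mul, mapGSp_scG]
  conv_rhs => rw [hc, ← mul_assoc, ← map_mul]
  congr 2
  refine Units.ext ?_
  show σ ((t₀⁻¹ : Fˣ) : F) = ((t₀⁻¹ : Fˣ) : F) * (c : F)
  rw [Units.val_inv_eq_inv_val, map_inv₀]
  have hσt : σ (t₀ : F) ≠ 0 := (map_ne_zero σ).2 t₀.ne_zero
  field_simp
  linear_combination -ht

theorem exists_fixed_mu (σ : F ≃+* F) {b : Fˣ} (hb : σ (b : F) = b) :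
    ∃ D : GSpm, mapGSp σ D = D ∧ mu D = b := by
  have hm1 : 1 ≤ m := by omega
  let d : Im → F := Sum.elim (fun _ => (b : F)) fun _ => 1
  have hu : IsUnit (Matrix.diagonal d) := Matrix.isUnit_diagonal.2 (Pi.isUnit_iff.2 fun i => by
    rcases i with i | i
    · exact b.isUnit
    · exact isUnit_one)
  have hD : ∀ u v, B (Matrix.diagonal d *ᵥ u) (Matrix.diagonal d *ᵥ v) = (b : F) * B u v := fun u v => by
    simp only [B, Cfsg.sympForm, Matrix.J, dotProduct, Matrix.mulVec, Fintype.sum_sum_type,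
      Matrix.diagonal, Matrix.of_apply, d]
    simp [Finset.mul_sum, Matrix.one_apply, mul_add, mul_assoc, mul_left_comm]
  refine ⟨⟨hu.unit, b, hD⟩, Subtype.ext (Units.ext ?_), Units.ext (mu_unique hm1 hD)⟩
  show (Matrix.diagonal d).map σ = Matrix.diagonal d
  rw [Matrix.diagonal_map (map_zero σ)]
  congr 1
  funext i
  rcases i with i | i
  · exact hb
  · exact map_one σ

theorem split_field (σ : F ≃+* F) :
    Cfsg.splitClassCount (Cfsg.inndiagPSp m F) (Cfsg.Inn PSpm) (semi 1 σ) =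
      Nat.gcd 2 (AutPSL.fixedUnits σ).index := by
  classical
  have hm1 : 1 ≤ m := by omega
  rw [← AutPSL.card_quotient_sup (n := 2), ← range_conjHom]
  refine AutPSL.splitClassCount_eq conjHom _ inn_le_range _
    ((QuotientGroup.mk' _).comp mu)
    ((QuotientGroup.mk'_surjective _).comp (mu_surjective hm1))
    fun g => ?_
  rw [MonoidHom.comp_apply, QuotientGroup.mk'_apply, QuotientGroup.eq_one_iff, Subgroup.mem_sup]
  constructor
  · rintro ⟨a, ha, b, hb, hab⟩
    obtain ⟨D, hDfix, hDmu⟩ := exists_fixed_mu hm σ (b := b) hb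
    refine ⟨g * D⁻¹, D, ?_, ?_, (inv_mul_cancel_right _ _).symm⟩
    · rw [conjHom_apply]
      refine (semi_mem_inn hm _).2 ?_
      rw [map_mul, map_inv, hDmu, ← hab, mul_inv_cancel_right]
      exact ha
    · rw [commute_field_iff hm]
      exact ⟨1, by rw [map_one, one_mul, hDfix]⟩
  · rintro ⟨s, c, hs, hc, rfl⟩
    obtain ⟨t, g', hg', rfl⟩ := exists_fixed_of_commute hm hc
    refine ⟨mu s * t ^ 2, Subgroup.mul_mem _ ((semi_mem_inn hm s).1 hs) ⟨t, rfl⟩,
      mu g', ?_, by rw [map_mul, map_mul, mu_scG hm1, mul_assoc]⟩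
    show σ ((mu g' : Fˣ) : F) = _
    obtain ⟨x, hx⟩ : ∃ x : Vm, x ≠ 0 := ⟨Pi.single (Sum.inl ⟨0, hm1⟩) 1, by simp⟩
    obtain ⟨w, hw⟩ := exists_one hx
    refine (mu_unique hm1 (g := g') fun u v => ?_).symm
    obtain ⟨u', rfl⟩ : ∃ u', u = σ ∘ u' := ⟨σ.symm ∘ u, by
      rw [← Function.comp_assoc, comp_symm, Function.id_comp]⟩
    obtain ⟨v', rfl⟩ : ∃ v', v = σ ∘ v' := ⟨σ.symm ∘ v, by
      rw [← Function.comp_assoc, comp_symm, Function.id_comp]⟩
    have e : ∀ z : Vm, ((g' : GLm) : Mm) *ᵥ (σ ∘ z) = σ ∘ (((g' : GLm) : Mm) *ᵥ z) := fun z => by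
      rw [map_mulVec_eq]
      congr 1
      exact (congrArg (fun h : GSpm => ((h : GLm) : Mm)) hg').symm
    rw [e, e, B_map, B_map, mu_spec hm1, map_mul]

theorem centralizer_field {σ : F ≃+* F} {F₀ : Type*} [Field F₀]
    (ι : F₀ →+* F) (hι : ∀ a, a ∈ ι.range ↔ σ a = a) :
    Nonempty (↥(Cfsg.inndiagPSp m F ⊓ Subgroup.centralizer {(semi 1 σ : MulAut PSpm)}) ≃*
      Cfsg.PGSp m F₀) := by
  have hm1 : 1 ≤ m := by omega
  have hform : ∀ u v : Im → F₀, B (ι ∘ u) (ι ∘ v) = ι (Cfsg.sympForm m F₀ u v) := by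
    intro u v
    have hJ : (Matrix.J (Fin m) F₀).map ι = Matrix.J (Fin m) F := by
      simp [Matrix.J, Matrix.fromBlocks_map, Matrix.map_one _ (map_zero ι) (map_one ι),
        Matrix.map_neg]
    show (ι ∘ u) ⬝ᵥ (Matrix.J (Fin m) F *ᵥ (ι ∘ v)) = _
    rw [← hJ]
    simp [Cfsg.sympForm, dotProduct, Matrix.mulVec, map_sum]
  let M : Cfsg.GSp m F₀ →* GLm :=
    (Matrix.GeneralLinearGroup.map ι).comp (Cfsg.GSp m F₀).subtype
  have hM : ∀ g, M g ∈ Cfsg.GSp m F := by
    intro g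
    obtain ⟨c, hc0, hc⟩ := exists_mult (g := (g : GL Im F₀)) g.2
    refine ⟨Units.mk0 (ι c) ((map_ne_zero ι).2 hc0), fun u v => ?_⟩
    have key : ∀ i j, B (((M g : GLm) : Mm) *ᵥ Pi.single i 1)
        (((M g : GLm) : Mm) *ᵥ Pi.single j 1) =
        ι c * B (Pi.single i (1 : F) : Vm) (Pi.single j 1) := by
      intro i j
      have hs : ∀ l : Im, (Pi.single l (1 : F) : Vm) = ι ∘ (Pi.single l (1 : F₀) : Im → F₀) :=
        fun l => funext fun k => by rcases eq_or_ne k l with rfl | hk <;> simp [*]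
      have hmv : ∀ u : Im → F₀, ((M g : GLm) : Mm) *ᵥ (ι ∘ u) =
          ι ∘ (((g : GL Im F₀) : Matrix Im Im F₀) *ᵥ u) := fun u =>
        funext fun l => (RingHom.map_mulVec ι _ u l).symm
      rw [hs, hs, hmv, hmv, hform, hform, ← map_mul]
      exact congrArg ι (hc _ _)
    have hsumL : ∀ (f : Im → Vm) (w : Vm), B (∑ i, f i) w = ∑ i, B (f i) w := fun f w =>
      map_sum (AddMonoidHom.mk' (fun z => B z w) fun a b => add_left a b w) _ _
    show B _ _ = ι c * B u v
    conv_lhs => rw [pi_eq_sum_univ' u, pi_eq_sum_univ' v]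
    conv_rhs => rw [pi_eq_sum_univ' u, pi_eq_sum_univ' v]
    simp only [Matrix.mulVec_sum, Matrix.mulVec_smul, hsumL, sum_right, Finset.mul_sum, smul_left,
      smul_right, key]
    exact Finset.sum_congr rfl fun i _ => Finset.sum_congr rfl fun j _ => by ring
  let MU : Cfsg.GSp m F₀ →* GSpm := M.codRestrict _ hM
  let Θ : Cfsg.GSp m F₀ →* MulAut PSpm := conjHom.comp MU
  obtain ⟨i₀, -⟩ : ∃ i : Im, i = Sum.inl ⟨0, hm1⟩ := ⟨_, rfl⟩
  have hker : Θ.ker = (Cfsg.Geo.scalars (Fin m ⊕ Fin m) F₀).subgroupOf (Cfsg.GSp m F₀) := by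
    ext g
    rw [MonoidHom.mem_ker, MonoidHom.comp_apply, conjHom_apply, semi_eq_one_iff' hm,
      Subgroup.mem_subgroupOf, Cfsg.Geo.mem_scalars_iff]
    constructor
    · rintro ⟨-, c, hc⟩
      have hd : ∀ a b, ι (((g : GL Im F₀) : Matrix Im Im F₀) a b) =
          (Matrix.scalar Im (c : F)) a b := fun a b =>
        congrArg (fun u : GSpm => ((u : GLm) : Mm) a b) hc
      have h1 := hd i₀ i₀
      simp only [Matrix.scalar_apply, Matrix.diagonal_apply_eq] at h1
      have hc0 : ((g : GL Im F₀) : Matrix Im Im F₀) i₀ i₀ ≠ 0 := fun h0 => by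
        rw [h0, map_zero] at h1
        exact c.ne_zero h1.symm
      refine ⟨Units.mk0 _ hc0, Matrix.ext fun a b => ι.injective ?_⟩
      rw [hd]
      rcases eq_or_ne a b with rfl | hab <;> simp [*]
    · rintro ⟨c, hc⟩
      refine ⟨rfl, Units.map ι.toMonoidHom c, Subtype.ext (Units.ext ?_)⟩
      show ((g : GL Im F₀) : Matrix Im Im F₀).map ι = Matrix.scalar Im (ι c)
      rw [hc, Matrix.scalar_apply]
      ext a b
      rcases eq_or_ne a b with rfl | hab <;> simp [*]
  have hrange : Θ.range = Cfsg.inndiagPSp m F ⊓ Subgroup.centralizer {(semi 1 σ : MulAut PSpm)} := by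
    apply le_antisymm
    · rintro _ ⟨g, rfl⟩
      refine ⟨mem_inndiag.2 ⟨_, rfl⟩, Subgroup.mem_centralizer_singleton_iff.2 ?_⟩
      refine ((commute_field_iff hm _ σ).2 ⟨1, ?_⟩).eq
      rw [map_one, one_mul]
      exact Subtype.ext (Units.ext (Matrix.ext fun a b => ((hι _).1 ⟨_, rfl⟩).symm))
    · rintro y ⟨hy, hyc⟩
      obtain ⟨g, rfl⟩ := mem_inndiag.1 hy
      obtain ⟨t, g', hg', rfl⟩ := exists_fixed_of_commute hm (g := g)
        (Subgroup.mem_centralizer_singleton_iff.1 hyc)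
      rw [← semi_mul_one, (semi_eq_one_iff' hm).2 ⟨rfl, t, rfl⟩, one_mul]
      have hfix : ∀ a b, ((g' : GLm) : Mm) a b ∈ ι.range := fun a b =>
        (hι _).2 (congrArg (fun u : GSpm => ((u : GLm) : Mm) a b) hg')
      choose A hA using hfix
      have hmap : (Matrix.of A).map ι = ((g' : GLm) : Mm) := Matrix.ext hA
      have hu : IsUnit (Matrix.of A) := by
        rw [Matrix.isUnit_iff_isUnit_det, isUnit_iff_ne_zero]
        intro h0
        have := congrArg ι h0
        rw [RingHom.map_det, RingHom.mapMatrix_apply, hmap, map_zero] at this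
        exact (isUnit_iff_ne_zero.1 ((Matrix.isUnit_iff_isUnit_det _).1 (g' : GLm).isUnit)) this
      have hmv : ∀ u : Im → F₀, ι ∘ ((Matrix.of A) *ᵥ u) =
          ((g' : GLm) : Mm) *ᵥ (ι ∘ u) := fun u => by
        rw [← hmap]
        exact funext fun l => RingHom.map_mulVec ι _ u l
      have hc : ∃ c : F₀, ι c = (mu g' : F) := by
        obtain ⟨x, hx⟩ : ∃ x : Im → F₀, x ≠ 0 := ⟨Pi.single (Sum.inl ⟨0, hm1⟩) 1, by simp⟩
        obtain ⟨w, hw⟩ := exists_one hx
        refine ⟨Cfsg.sympForm m F₀ (Matrix.of A *ᵥ w) (Matrix.of A *ᵥ x), ?_⟩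
        rw [← hform, hmv, hmv, mu_spec hm1, hform, show Cfsg.sympForm m F₀ w x = 1 from hw, map_one,
          mul_one]
      obtain ⟨c, hc⟩ := hc
      have hc0 : c ≠ 0 := fun e => (mu g').ne_zero (by rw [← hc, e, map_zero])
      have hmem : hu.unit ∈ Cfsg.GSp m F₀ := by
        refine ⟨Units.mk0 c hc0, fun u v => ι.injective ?_⟩
        rw [← hform, map_mul, ← hform, IsUnit.unit_spec, hmv, hmv, Units.val_mk0, hc]
        exact mu_spec hm1 g' _ _
      refine ⟨⟨hu.unit, hmem⟩, ?_⟩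
      rw [MonoidHom.comp_apply, conjHom_apply]
      congr 1
      refine Subtype.ext (Units.ext ?_)
      show ((hu.unit : GL Im F₀) : Matrix Im Im F₀).map ι = _
      rw [IsUnit.unit_spec, hmap]
  exact ⟨(MulEquiv.subgroupCongr hrange.symm).trans ((QuotientGroup.quotientKerEquivRange Θ).symm.trans
    (QuotientGroup.quotientMulEquivOfEq hker))⟩

omit hm in
theorem gcd_index_fixedUnits (p f : ℕ) [Fact p.Prime] (hF : Fintype.card F = p ^ f) (σ : F ≃+* F) :
    Nat.gcd 2 (AutPSL.fixedUnits σ).index = Nat.gcd (Nat.gcd 2 (p ^ f - 1)) (orderOf σ) := by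
  classical
  obtain ⟨K, hK, hcard⟩ := AutPSL.exists_fixed_field σ
  have hKc := AutPSL.card_fixed_field p f hF hcard
  have h1 := Subgroup.card_mul_index (AutPSL.fixedUnits σ)
  rw [AutPSL.card_fixedUnits hK, Nat.card_units, Nat.card_eq_fintype_card (α := F), hcard] at h1
  obtain ⟨a, ha⟩ : ∃ a, Nat.card K = a + 2 := ⟨Nat.card K - 2, by
    have : 1 < Nat.card K := Finite.one_lt_card
    omega⟩
  have hgeom := Nat.geomSum_eq (m := Nat.card K) (by omega) (orderOf σ)
  have hidx : (AutPSL.fixedUnits σ).index = ∑ i ∈ Finset.range (orderOf σ), Nat.card K ^ i := by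
    rw [hgeom, ← h1, Nat.mul_div_cancel_left _ (by omega)]
  obtain ⟨c, hc⟩ := AutPSL.orderOf_dvd_exponent p f hF σ
  have hmod : (AutPSL.fixedUnits σ).index % 2 =
      if p = 2 then 1 else orderOf σ % 2 := by
    have hr := AutPSL.orderOf_pos' σ
    rw [hidx, Finset.sum_nat_mod]
    split_ifs with hp
    · obtain ⟨k, hk⟩ : ∃ k, orderOf σ = k + 1 := ⟨orderOf σ - 1, by omega⟩
      rw [hk, Finset.sum_range_succ']
      have h0 : ∀ i, Nat.card K ^ (i + 1) % 2 = 0 := fun i => by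
        have hf0 : f / orderOf σ ≠ 0 := fun e => by rw [hKc, e, pow_zero] at ha; omega
        rw [hKc, hp, ← pow_mul, Nat.pow_mod, Nat.mod_self,
          zero_pow (Nat.mul_ne_zero hf0 (Nat.succ_ne_zero i)), Nat.zero_mod]
      simp only [h0, Finset.sum_const_zero, zero_add, pow_zero]
      norm_num
    · have hodd : Nat.card K % 2 = 1 := by
        rw [hKc, Nat.pow_mod, (Nat.Prime.eq_two_or_odd (Fact.out : p.Prime)).resolve_left hp,
          one_pow, Nat.one_mod_eq_one.2 (by norm_num : (2 : ℕ) ≠ 1)]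
      simp only [Nat.pow_mod, hodd, one_pow, Nat.mod_self, Nat.one_mod, Nat.one_mod_eq_one.2 (by norm_num : (2 : ℕ) ≠ 1), Finset.sum_const, Finset.card_range, smul_eq_mul, mul_one]
  have hgcd : ∀ x, Nat.gcd 2 x = if x % 2 = 0 then 2 else 1 := fun x => by
    rw [Nat.gcd_rec]
    rcases Nat.mod_two_eq_zero_or_one x with h | h <;> simp [h]
  split_ifs at hmod with hp
  · subst hp
    have hodd : (2 ^ f - 1) % 2 = 1 := by
      have hf0 : f ≠ 0 := fun e => by
        have : 1 < Fintype.card F := Fintype.one_lt_card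
        rw [hF, e, pow_zero] at this
        omega
      obtain ⟨f', rfl⟩ := Nat.exists_eq_succ_of_ne_zero hf0
      rw [pow_succ]
      have : 0 < 2 ^ f' := pow_pos two_pos _
      omega
    rw [hgcd, hgcd (2 ^ f - 1), if_neg (by omega), if_neg (by omega), Nat.gcd_one_left]
  · have heven : (p ^ f - 1) % 2 = 0 := by
      have : p ^ f % 2 = 1 := by
        rw [Nat.pow_mod, (Nat.Prime.eq_two_or_odd (Fact.out : p.Prime)).resolve_left hp, one_pow,
          Nat.one_mod_eq_one.2 (by norm_num : (2 : ℕ) ≠ 1)]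
      omega
    rw [hgcd, hgcd (p ^ f - 1), if_pos heven, hgcd, hmod]

end Cfsg.Agent.AutPSp
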