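import Cfsg.Agent.Lib.AutPSp.Graph
import Cfsg.Agent.Lib.AutPSL.Centralizer
import Cfsg.Agent.Lib.Classical.SympStab

/-!
Classes of the field automorphisms of `PSp_{2m}` in the coset of the inner-diagonal group.
-/

set_option autoImplicit false

namespace Cfsg.Agent.AutPSp

open Matrix

variable {F : Type*} [Field F] {m : ℕ}

local notation "Im" => Fin m ⊕ Fin m
local notation "Vm" => Fin m ⊕ Fin m → F
local notation "Mm" => Matrix (Fin m ⊕ Fin m) (Fin m ⊕ Fin m) F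
local notation "Spm" => Matrix.symplecticGroup (Fin m) F
local notation "GSpm" => Cfsg.GSp m F
local notation "GLm" => GL (Fin m ⊕ Fin m) F
local notation "PSpm" => Cfsg.PSp m F

/-- Reindexing of the general linear group. -/
noncomputable def reIdx : GL (Fin m ⊕ Fin m) F ≃* GL (Fin (m + m)) F :=
  Units.mapEquiv (Matrix.reindexAlgEquiv F F finSumFinEquiv).toMulEquiv

theorem reIdx_map (σ : F ≃+* F) (g : GLm) :
    reIdx (Matrix.GeneralLinearGroup.map σ.toRingHom g) = AutPSL.mapGL σ (reIdx g) :=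
  Units.ext (Matrix.ext fun _ _ => rfl)

theorem reIdx_scalar (a : Fˣ) :
    reIdx (Matrix.GeneralLinearGroup.scalar (Fin m ⊕ Fin m) a) =
      Matrix.GeneralLinearGroup.scalar (Fin (m + m)) a := by
  refine Units.ext (Matrix.ext fun i j => ?_)
  show Matrix.scalar (Fin m ⊕ Fin m) (a : F) (finSumFinEquiv.symm i) (finSumFinEquiv.symm j) =
    Matrix.scalar (Fin (m + m)) (a : F) i j
  simp only [Matrix.scalar_apply]
  rcases eq_or_ne i j with rfl | h
  · rw [Matrix.diagonal_apply_eq, Matrix.diagonal_apply_eq]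
  · rw [Matrix.diagonal_apply_ne _ h,
      Matrix.diagonal_apply_ne _ fun e => h (finSumFinEquiv.symm.injective e)]

/-- The twisted product in `GSp`. -/
def twistG (σ : F ≃+* F) (g : GSpm) : ℕ → GSpm
  | 0 => 1
  | k + 1 => g * mapGSp σ (twistG σ g k)

theorem twistG_coe (σ : F ≃+* F) (g : GSpm) (k : ℕ) :
    reIdx ((twistG σ g k : GSpm) : GLm) = AutPSL.twist σ (reIdx (g : GLm)) k := by
  induction k with
  | zero => exact map_one reIdx
  | succ k ih => rw [twistG, AutPSL.twist, Subgroup.coe_mul, map_mul, mapGSp_coe, reIdx_map, ih]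

theorem semi_pow (g : GSpm) (σ : F ≃+* F) (k : ℕ) :
    (semi g σ : MulAut PSpm) ^ k = semi (twistG σ g k) (σ ^ k) := by
  induction k with
  | zero => rw [pow_zero, twistG, pow_zero, semi_one]
  | succ k ih => rw [pow_succ', ih, semi_mul, twistG, pow_succ']

theorem semi_conj (P : GSpm) (σ : F ≃+* F) :
    (semi P 1 * semi 1 σ * (semi P 1)⁻¹ : MulAut PSpm) = semi (P * (mapGSp σ P)⁻¹) σ := by
  rw [semi_inv_one, semi_mul_one, semi_mul, mul_one, mul_one]
  congr 2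

variable [Finite F] (hm : 2 ≤ m)
include hm

theorem orderOf_semi_one (σ : F ≃+* F) : orderOf (semi 1 σ : MulAut PSpm) = orderOf σ := by
  have hpow : ∀ k, (semi 1 σ : MulAut PSpm) ^ k = semi 1 (σ ^ k) := by
    intro k
    induction k with
    | zero => simp [semi_one]
    | succ k ih => rw [pow_succ, ih, semi_mul, mapGSp_one', mul_one, pow_succ]
  refine orderOf_eq_orderOf_iff.2 fun k => ?_
  rw [hpow]
  exact ⟨fun e => ((semi_eq_one_iff' hm).1 e).1, fun e => by rw [e, semi_one]⟩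

/-- Descent in the similitude group. -/
theorem exists_descent_GSp [Fintype F] (σ : F ≃+* F) (g : GSpm) {a : Fˣ}
    (hg : twistG σ g (orderOf σ) = scG a) :
    ∃ (Q : GSpm) (t : Fˣ), g = scG t * Q * (mapGSp σ Q)⁻¹ := by
  classical
  obtain ⟨K, hK, -⟩ := AutPSL.exists_fixed_field σ
  obtain ⟨P', t, hP'⟩ := AutPSL.exists_descent_scalar σ (by omega) (reIdx (g : GLm)) a
    (by rw [← twistG_coe, hg, scG_coe, reIdx_scalar])
  obtain ⟨P, rfl⟩ := (reIdx (m := m) (F := F)).surjective P'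
  rw [← reIdx_map, ← reIdx_scalar, ← map_inv, ← map_mul, ← map_mul] at hP'
  have hP := reIdx.injective hP'
  have e : ((g : GLm) : Mm) * (P : Mm).map σ = (t : F) • (P : Mm) := by
    have e1 : (g : GLm) * Matrix.GeneralLinearGroup.map σ.toRingHom P =
        Matrix.GeneralLinearGroup.scalar Im t * P := by rw [hP, inv_mul_cancel_right]
    have e2 := congrArg Units.val e1
    rw [Units.val_mul, Units.val_mul] at e2
    refine e2.trans ?_
    show Matrix.scalar Im (t : F) * (P : Mm) = _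
    rw [Matrix.scalar_apply, ← Matrix.smul_one_eq_diagonal, smul_mul_assoc, one_mul]
  have hm1 : 1 ≤ m := by omega
  obtain ⟨μ, hμ⟩ : ∃ μ : F, μ = (mu g : F) := ⟨_, rfl⟩
  have hμ0 : μ ≠ 0 := hμ ▸ (mu g).ne_zero
  obtain ⟨ι, hι⟩ : ∃ ι : (Im → K) → Vm, ∀ u i, ι u i = (u i : F) := ⟨fun u i => (u i : F), fun _ _ => rfl⟩
  have hιfix : ∀ u, (σ : F → F) ∘ ι u = ι u := fun u => funext fun i => by
    rw [Function.comp_apply, hι]; exact (hK _).1 (u i).2
  have hιadd : ∀ u v, ι (u + v) = ι u + ι v := fun u v => funext fun i => by simp [hι]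
  have hιsmul : ∀ (c : K) u, ι (c • u) = (c : F) • ι u := fun c u => funext fun i => by simp [hι]
  have hσB : ∀ u v, μ * σ (B ((P : Mm) *ᵥ ι u) ((P : Mm) *ᵥ ι v)) =
      (t : F) * t * B ((P : Mm) *ᵥ ι u) ((P : Mm) *ᵥ ι v) := by
    intro u v
    rw [← B_map, hμ, ← mu_spec hm1]
    simp only [map_mulVec_eq, hιfix, Matrix.mulVec_mulVec, e, Matrix.smul_mulVec, smul_left,
      smul_right]
    ring
  have hinj : Function.Injective fun x : Vm => (P : Mm) *ᵥ x :=
    Matrix.mulVec_injective_iff_isUnit.2 P.isUnit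
  have hsurj : ∀ w, ∃ x, (P : Mm) *ᵥ x = w := fun w => ⟨((P⁻¹ : GLm) : Mm) *ᵥ w, by
    rw [Matrix.mulVec_mulVec, ← Units.val_mul, mul_inv_cancel, Units.val_one, Matrix.one_mulVec]⟩
  have hsingle : ∀ j, ι (Pi.single j 1) = Pi.single j (1 : F) := fun j => funext fun i => by
    rw [hι]
    rcases eq_or_ne i j with rfl | hij <;> simp [*]
  have hnd : ∀ u : Im → K, (∀ v, B ((P : Mm) *ᵥ ι u) ((P : Mm) *ᵥ ι v) = 0) → u = 0 := by
    intro u hu
    have h1 : (P : Mm) *ᵥ ι u = 0 := nondeg fun w => by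
      obtain ⟨x, rfl⟩ := hsurj w
      rw [pi_eq_sum_univ' x, Matrix.mulVec_sum, sum_right]
      refine Finset.sum_eq_zero fun j _ => ?_
      rw [Matrix.mulVec_smul, smul_right, ← hsingle, hu, mul_zero]
    have h2 := hinj (h1.trans (Matrix.mulVec_zero _).symm)
    exact funext fun i => Subtype.ext (by
      have := congrFun h2 i
      rwa [hι] at this)
  obtain ⟨u₀, v₀, hb0⟩ : ∃ u₀ v₀, B ((P : Mm) *ᵥ ι u₀) ((P : Mm) *ᵥ ι v₀) ≠ 0 := by
    by_contra! hall
    have := congrFun (hnd (Pi.single (Sum.inl ⟨0, hm1⟩) 1) (hall _)) (Sum.inl ⟨0, hm1⟩)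
    simp at this
  obtain ⟨b, hb⟩ : ∃ b, b = B ((P : Mm) *ᵥ ι u₀) ((P : Mm) *ᵥ ι v₀) := ⟨_, rfl⟩
  have hb' : b ≠ 0 := hb ▸ hb0
  have hmem : ∀ u v, B ((P : Mm) *ᵥ ι u) ((P : Mm) *ᵥ ι v) / b ∈ K := by
    intro u v
    rw [hK, map_div₀, div_eq_div_iff ((map_ne_zero σ).2 hb') hb', hb]
    refine mul_left_cancel₀ hμ0 ?_
    linear_combination (B ((P : Mm) *ᵥ ι u₀) ((P : Mm) *ᵥ ι v₀)) * hσB u v -
      (B ((P : Mm) *ᵥ ι u) ((P : Mm) *ᵥ ι v)) * hσB u₀ v₀
  obtain ⟨H, hH⟩ : ∃ H : (Im → K) → (Im → K) → K,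
      ∀ u v, (H u v : F) = B ((P : Mm) *ᵥ ι u) ((P : Mm) *ᵥ ι v) / b :=
    ⟨fun u v => ⟨_, hmem u v⟩, fun _ _ => rfl⟩
  let Hb : LinearMap.BilinForm K (Im → K) := LinearMap.mk₂ K H
    (fun u u' v => Subtype.ext (by
      rw [Subfield.coe_add, hH, hH, hH, hιadd, Matrix.mulVec_add, add_left, add_div]))
    (fun c u v => Subtype.ext (by
      rw [smul_eq_mul, Subfield.coe_mul, hH, hH, hιsmul, Matrix.mulVec_smul, smul_left,
        mul_div_assoc]))
    (fun u v v' => Subtype.ext (by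
      rw [Subfield.coe_add, hH, hH, hH, hιadd, Matrix.mulVec_add, add_right, add_div]))
    (fun c u v => Subtype.ext (by
      rw [smul_eq_mul, Subfield.coe_mul, hH, hH, hιsmul, Matrix.mulVec_smul, smul_right,
        mul_div_assoc]))
  have hA : Hb.IsAlt := fun u => Subtype.ext (by
    show (H u u : F) = _
    rw [hH, self_zero, zero_div]
    rfl)
  obtain ⟨ψ, hψ⟩ := SympStab.exists_isometry (m := m) hA (fun u hu => hnd u fun v => by
    have := congrArg Subtype.val (hu v)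
    change (H u v : F) = _ at this
    rw [hH] at this
    simpa [hb'] using this) ClassicalSp.finrank_space
  obtain ⟨M, hM⟩ : ∃ M : Mm, M = Matrix.of fun i j => (ψ (Pi.single j 1) i : F) := ⟨_, rfl⟩
  have hMfix : M.map σ = M := Matrix.ext fun i j => by
    rw [hM, Matrix.map_apply, Matrix.of_apply]
    exact (hK _).1 (ψ _ i).2
  have hcol : ∀ j, M *ᵥ Pi.single j 1 = ι (ψ (Pi.single j 1)) := fun j => funext fun i => by
    rw [Matrix.mulVec_single_one, hι, hM]; rfl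
  have hQ : ∀ x y, B (((P : Mm) * M) *ᵥ x) (((P : Mm) * M) *ᵥ y) = b * B x y := by
    have hkey : ∀ i j, B (((P : Mm) * M) *ᵥ Pi.single i 1) (((P : Mm) * M) *ᵥ Pi.single j 1) =
        b * B (Pi.single i (1 : F)) (Pi.single j 1) := fun i j => by
      rw [← Matrix.mulVec_mulVec, ← Matrix.mulVec_mulVec, hcol, hcol]
      have e1 := congrArg Subtype.val (hψ (Pi.single i 1) (Pi.single j 1))
      change (H _ _ : F) = _ at e1
      rw [hH, div_eq_iff hb', ClassicalSp.spBilin_apply] at e1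
      rw [e1, mul_comm]
      congr 1
      simp only [B, Cfsg.sympForm, Matrix.mulVec_single_one, single_dotProduct, one_mul,
        Matrix.col_apply, Matrix.J]
      rcases i with i | i <;> rcases j with j | j <;> simp [Matrix.one_apply] <;> split_ifs <;> simp
    intro x y
    obtain ⟨N, hN⟩ : ∃ N : Mm, N = (P : Mm) * M := ⟨_, rfl⟩
    have hsumL : ∀ (f : Im → Vm) (w : Vm), B (∑ i, f i) w = ∑ i, B (f i) w := fun f w =>
      map_sum (AddMonoidHom.mk' (fun z => B z w) fun a b => add_left a b w) _ _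
    rw [← hN]
    conv_lhs => rw [pi_eq_sum_univ' x, pi_eq_sum_univ' y]
    conv_rhs => rw [pi_eq_sum_univ' x, pi_eq_sum_univ' y]
    simp only [Matrix.mulVec_sum, Matrix.mulVec_smul, hsumL, sum_right, Finset.mul_sum, smul_left,
      smul_right, hN, hkey]
    exact Finset.sum_congr rfl fun i _ => Finset.sum_congr rfl fun j _ => by ring
  have hu : IsUnit ((P : Mm) * M) := Matrix.mulVec_injective_iff_isUnit.1 fun x y exy =>
    eq_of_forall fun w => mul_left_cancel₀ hb' (by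
      rw [← hQ x w, ← hQ y w]
      exact congrArg (fun z => B z _) exy)
  refine ⟨⟨hu.unit, Units.mk0 b hb', hQ⟩, t, ?_⟩
  rw [eq_mul_inv_iff_mul_eq]
  refine Subtype.ext (Units.ext ?_)
  show ((g : GLm) : Mm) * ((P : Mm) * M).map σ = Matrix.scalar Im (t : F) * ((P : Mm) * M)
  rw [Matrix.map_mul, hMfix, ← mul_assoc, e, Matrix.scalar_apply, ← Matrix.smul_one_eq_diagonal,
    smul_mul_assoc, smul_mul_assoc, one_mul]

/-- Prime order elements of a field automorphism coset are conjugate. -/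
theorem conj_of_pow_eq_one [Fintype F] (g : GSpm) (σ : F ≃+* F)
    (hg : (semi g σ : MulAut PSpm) ^ orderOf σ = 1) :
    ∃ P : GSpm, semi P 1 * semi 1 σ * (semi P 1)⁻¹ = (semi g σ : MulAut PSpm) := by
  rw [semi_pow, semi_eq_one_iff' hm] at hg
  obtain ⟨-, a, ha⟩ := hg
  obtain ⟨P, t, hP⟩ := exists_descent_GSp hm σ g ha
  exact ⟨P, by rw [semi_conj, semi_eq_semi hm]; exact ⟨rfl, t⁻¹, by
    rw [hP, ← mul_assoc, ← mul_assoc, ← map_mul, inv_mul_cancel, map_one, one_mul]⟩⟩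

omit hm in
theorem conj_reduce (hm : 2 ≤ m) (hs : m = 2 → 3 ≤ Nat.card F) (σ : F ≃+* F) (α : MulAut PSpm) :
    ∃ (g : GSpm) (τ : F ≃+* F), α⁻¹ * semi 1 σ * α = (semi g τ)⁻¹ * semi 1 σ * semi g τ := by
  by_cases hgen : (2 : F) ≠ 0 ∨ 3 ≤ m
  · obtain ⟨g, τ, rfl⟩ := exists_semi' hm hgen α
    exact ⟨g, τ, rfl⟩
  rw [not_or, not_not] at hgen
  obtain rfl : m = 2 := by omega
  rcases exists_semi_or hgen.1 α with ⟨g, τ, rfl⟩ | ⟨g, τ, h⟩
  · exact ⟨g, τ, rfl⟩
  refine ⟨g, τ, ?_⟩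
  rw [← h, _root_.mul_inv_rev]
  have hc : (gam hgen.1)⁻¹ * semi 1 σ * gam hgen.1 = semi 1 σ := by
    rw [mul_assoc, ← gam_comm_field, inv_mul_cancel_left]
  conv_lhs => rw [← hc]
  group

/-- The classes of the field automorphisms. -/
theorem exists_conj_field (hs : m = 2 → 3 ≤ Nat.card F) {x : MulAut PSpm}
    (hx : Cfsg.IsFieldAutClassPSp x) :
    ∃ (σ : F ≃+* F) (P : GSpm), σ ≠ 1 ∧ orderOf x = orderOf σ ∧
      x = semi P 1 * semi 1 σ * (semi P 1)⁻¹ := by
  cases nonempty_fintype F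
  obtain ⟨α, σ, hσ, hφ⟩ := hx
  have hconj : α * x * α⁻¹ = semi 1 σ := semi_eq_of_induced 1 σ fun s s' hs' =>
    hφ s s' (hs'.trans (by simp))
  obtain ⟨g, τ, hgt⟩ := conj_reduce hm hs σ α
  have hcomm : (semi 1 τ : MulAut PSpm) * semi 1 σ = semi 1 σ * semi 1 τ := by
    rw [semi_mul, semi_mul, mapGSp_one', mapGSp_one', AutPSL.ringAut_comm]
  obtain ⟨P, hP⟩ : ∃ P : GSpm, (semi 1 τ : MulAut PSpm)⁻¹ * (semi g 1)⁻¹ * semi 1 τ = semi P 1 := by
    obtain ⟨g', hg'⟩ := semi_inverse (1 : GSpm) τ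
    refine ⟨g' * mapGSp τ⁻¹ g⁻¹ * mapGSp τ⁻¹ 1, ?_⟩
    rw [← eq_inv_of_mul_eq_one_left hg', semi_inv_one, semi_mul, semi_mul, mul_one, inv_mul_cancel]
  have hx' : x = semi P 1 * semi 1 σ * (semi P 1)⁻¹ := by
    rw [← hP]
    have e : x = (semi g τ : MulAut PSpm)⁻¹ * semi 1 σ * semi g τ := by rw [← hgt, ← hconj]; group
    rw [e, semi_decomp g τ]
    calc ((semi g 1 : MulAut PSpm) * semi 1 τ)⁻¹ * semi 1 σ * (semi g 1 * semi 1 τ)
        = (semi 1 τ)⁻¹ * (semi g 1)⁻¹ * semi 1 σ * semi g 1 * semi 1 τ := by group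
      _ = (semi 1 τ)⁻¹ * (semi g 1)⁻¹ * (semi 1 τ * semi 1 σ * (semi 1 τ)⁻¹) * semi g 1 * semi 1 τ := by
          rw [hcomm, mul_inv_cancel_right]
      _ = _ := by group
  refine ⟨σ, P, hσ, ?_, hx'⟩
  rw [hx', show semi P 1 * semi 1 σ * (semi P 1 : MulAut PSpm)⁻¹ =
    MulAut.conj (semi P 1) (semi 1 σ) from (MulAut.conj_apply _ _).symm, MulEquiv.orderOf_eq,
    orderOf_semi_one hm]

end Cfsg.Agent.AutPSp
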