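import Cfsg.Agent.Lib.AutPSp.Outer

/-!
The exceptional automorphism of `PSp_4` in characteristic two, and the index of the semilinear automorphisms.
The automorphism is the action on the quotient `ω^⊥ / ω` of the exterior square.
-/

set_option autoImplicit false

namespace Cfsg.Agent.AutPSp

open Matrix

variable {F : Type*} [Field F]

local notation "I4" => Fin 2 ⊕ Fin 2
local notation "V4" => Fin 2 ⊕ Fin 2 → F
local notation "M4" => Matrix (Fin 2 ⊕ Fin 2) (Fin 2 ⊕ Fin 2) F
local notation "Sp4" => Matrix.symplecticGroup (Fin 2) F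
local notation "PSp4" => Cfsg.PSp 2 F
local notation "π" => QuotientGroup.mk' (Subgroup.center (Matrix.symplecticGroup (Fin 2) F))

/-- The four isotropic pairs of coordinates. -/
def pr : I4 → I4 × I4 :=
  Sum.elim ![(Sum.inl 0, Sum.inl 1), (Sum.inl 0, Sum.inr 1)]
    ![(Sum.inr 0, Sum.inr 1), (Sum.inr 0, Sum.inl 1)]

/-- A minor in characteristic two. -/
def mn (A : M4) (i j k l : I4) : F := A i k * A j l + A i l * A j k

/-- The four by four block of the exterior square. -/
def psiM (A : M4) : M4 :=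
  Matrix.of fun I J => mn A (pr I).1 (pr I).2 (pr J).1 (pr J).2

theorem psiM_transpose (A : M4) : psiM Aᵀ = (psiM A)ᵀ := by
  ext I J
  simp only [psiM, mn, Matrix.of_apply, Matrix.transpose_apply]
  ring

theorem psiM_map (τ : F ≃+* F) (A : M4) : psiM (A.map τ) = (psiM A).map τ := by
  ext I J
  simp [psiM, mn, Matrix.map_apply]

theorem psiM_one : psiM (1 : M4) = 1 := by
  ext (I | I) (J | J) <;> fin_cases I <;> fin_cases J <;>
    simp [psiM, mn, pr, Matrix.one_apply]

variable (h2 : (2 : F) = 0)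
include h2

theorem neg_eq' (x : F) : -x = x := by linear_combination -x * h2

theorem psiM_J : psiM (Matrix.J (Fin 2) F) = Matrix.J (Fin 2) F := by
  ext (I | I) (J | J) <;> fin_cases I <;> fin_cases J <;>
    simp [psiM, mn, pr, Matrix.J, Matrix.one_apply, neg_eq' h2]

omit h2 in
theorem sum_I4 (G : I4 → F) :
    ∑ i, G i = G (Sum.inl 0) + G (Sum.inl 1) + (G (Sum.inr 0) + G (Sum.inr 1)) := by
  simp [Fintype.sum_sum_type, Fin.sum_univ_two]

theorem mn_row {A : M4} (hA : A ∈ Sp4) (I : I4) :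
    mn A (pr I).1 (pr I).2 (Sum.inl 0) (Sum.inr 0) +
      mn A (pr I).1 (pr I).2 (Sum.inl 1) (Sum.inr 1) = 0 := by
  have h := congrFun (congrFun (SymplecticGroup.mem_iff.1 hA) (pr I).1) (pr I).2
  have hJ : Matrix.J (Fin 2) F (pr I).1 (pr I).2 = 0 := by
    rcases I with I | I <;> fin_cases I <;> simp [pr, Matrix.J, Matrix.one_apply]
  rw [hJ] at h
  simp only [Matrix.mul_apply, sum_I4, Matrix.transpose_apply, Matrix.J] at h
  simp [Matrix.one_apply, neg_eq' h2] at h
  simp only [mn]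
  linear_combination h

theorem mn_col {A : M4} (hA : A ∈ Sp4) (J : I4) :
    mn A (Sum.inl 0) (Sum.inr 0) (pr J).1 (pr J).2 +
      mn A (Sum.inl 1) (Sum.inr 1) (pr J).1 (pr J).2 = 0 := by
  have := mn_row h2 (SymplecticGroup.transpose_mem hA) J
  simp only [mn, Matrix.transpose_apply] at this ⊢
  linear_combination this

theorem psiM_mul {A A' : M4} (hA : A ∈ Sp4) (hA' : A' ∈ Sp4) :
    psiM (A * A') = psiM A * psiM A' := by
  ext I J
  have hr := mn_row h2 hA I
  have hc := mn_col h2 hA' J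
  have key : ∀ i j k l : I4,
      mn A i j (Sum.inl 0) (Sum.inr 0) + mn A i j (Sum.inl 1) (Sum.inr 1) = 0 →
      mn A' (Sum.inl 0) (Sum.inr 0) k l + mn A' (Sum.inl 1) (Sum.inr 1) k l = 0 →
      mn (A * A') i j k l = ∑ K, mn A i j (pr K).1 (pr K).2 * mn A' (pr K).1 (pr K).2 k l := by
    intro i j k l e e'
    have hpr : pr (Sum.inl 0) = (Sum.inl 0, Sum.inl 1) ∧ pr (Sum.inl 1) = (Sum.inl 0, Sum.inr 1) ∧
        pr (Sum.inr 0) = (Sum.inr 0, Sum.inr 1) ∧ pr (Sum.inr 1) = (Sum.inr 0, Sum.inl 1) :=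
      ⟨rfl, rfl, rfl, rfl⟩
    simp only [mn, Matrix.mul_apply, sum_I4, hpr.1, hpr.2.1, hpr.2.2.1, hpr.2.2.2] at e e' ⊢
    linear_combination (A' (Sum.inl 1) k * A' (Sum.inr 1) l + A' (Sum.inl 1) l * A' (Sum.inr 1) k) * e +
      (A i (Sum.inl 0) * A j (Sum.inr 0) + A i (Sum.inr 0) * A j (Sum.inl 0)) * e' +
      (A i (Sum.inl 0) * A j (Sum.inl 0) * (A' (Sum.inl 0) k * A' (Sum.inl 0) l) +
       A i (Sum.inl 1) * A j (Sum.inl 1) * (A' (Sum.inl 1) k * A' (Sum.inl 1) l) +
       A i (Sum.inr 0) * A j (Sum.inr 0) * (A' (Sum.inr 0) k * A' (Sum.inr 0) l) +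
       A i (Sum.inr 1) * A j (Sum.inr 1) * (A' (Sum.inr 1) k * A' (Sum.inr 1) l) -
       (A i (Sum.inl 0) * A j (Sum.inr 0) + A i (Sum.inr 0) * A j (Sum.inl 0)) *
        (A' (Sum.inl 1) k * A' (Sum.inr 1) l + A' (Sum.inl 1) l * A' (Sum.inr 1) k)) * h2
  rw [psiM, Matrix.of_apply, key _ _ _ _ hr hc, Matrix.mul_apply]
  rfl

theorem psiM_mem {A : M4} (hA : A ∈ Sp4) : psiM A ∈ Sp4 := by
  rw [SymplecticGroup.mem_iff]
  have hJ : Matrix.J (Fin 2) F ∈ Sp4 := SymplecticGroup.J_mem (Fin 2) F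
  have e := congrArg psiM (SymplecticGroup.mem_iff.1 hA)
  rwa [psiM_mul h2 (mul_mem hA hJ) (SymplecticGroup.transpose_mem hA), psiM_mul h2 hA hJ,
    psiM_J h2, psiM_transpose] at e

/-- The exceptional endomorphism. -/
def psi : Sp4 →* Sp4 where
  toFun s := ⟨psiM s, psiM_mem h2 s.2⟩
  map_one' := Subtype.ext psiM_one
  map_mul' s t := Subtype.ext (psiM_mul h2 s.2 t.2)

theorem psi_coe (s : Sp4) : (psi h2 s : M4) = psiM (s : M4) := rfl

omit h2 in
/-- The Plücker identity behind `psi_psi`. -/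
theorem minor_minor (h2 : (2 : F) = 0) {a b c d e g k l u v w z : F}
    (e1 : e * z + l * u + (g * w + k * v) = 1) (e2 : a * l + d * e + (b * k + c * g) = 0)
    (e3 : a * z + d * u + (b * w + c * v) = 0) :
    (a * g + b * e) * (a * w + c * u) + (a * k + c * e) * (a * v + b * u) = a * a := by
  linear_combination (a * a) * e1 + (a * u) * e2 + (a * e) * e3 +
    (b * c * e * u - a * a * e * z - a * a * l * u - a * d * e * u) * h2

theorem row_rel {A : M4} (hA : A ∈ Sp4) (i j : I4) :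
    mn A i j (Sum.inl 0) (Sum.inr 0) + mn A i j (Sum.inl 1) (Sum.inr 1) =
      Matrix.J (Fin 2) F i j := by
  have h := congrFun (congrFun (SymplecticGroup.mem_iff.1 hA) i) j
  simp only [Matrix.mul_apply, sum_I4, Matrix.transpose_apply, Matrix.J] at h
  simp [Matrix.one_apply, neg_eq' h2] at h
  simp only [mn, Matrix.J]
  linear_combination h

/-- First neighbour of a coordinate. -/
def sx : I4 → I4 := Sum.elim (fun i => Sum.inl (1 - i)) (fun i => Sum.inr (1 - i))

/-- Second neighbour of a coordinate. -/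
def sy : I4 → I4 := Sum.elim (fun i => Sum.inr (1 - i)) (fun i => Sum.inl (1 - i))

theorem psiM_psiM {A : M4} (hA : A ∈ Sp4) : psiM (psiM A) = A.map fun x => x * x := by
  have hxy : ∀ I : I4, Matrix.J (Fin 2) F (sx I) (sy I) = 1 ∧
      Matrix.J (Fin 2) F I (sx I) = 0 ∧ Matrix.J (Fin 2) F I (sy I) = 0 := by
    rintro (I | I) <;> fin_cases I <;>
      simp [sx, sy, Matrix.J, Matrix.one_apply, neg_eq' h2]
  have hc : ∀ i j J : I4, ∃ z, A i J * A j z + A i z * A j J +
      (A i (sx J) * A j (sy J) + A i (sy J) * A j (sx J)) = Matrix.J (Fin 2) F i j ∧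
      z = Sum.swap J := by
    intro i j J
    refine ⟨_, ?_, rfl⟩
    rw [← row_rel h2 hA i j]
    rcases J with J | J <;> fin_cases J <;> simp [sx, sy, mn] <;> ring
  ext I J
  obtain ⟨z, e1, rfl⟩ := hc (sx I) (sy I) J
  obtain ⟨z, e2, rfl⟩ := hc I (sx I) J
  obtain ⟨z, e3, rfl⟩ := hc I (sy I) J
  rw [(hxy I).1] at e1
  rw [(hxy I).2.1] at e2
  rw [(hxy I).2.2] at e3
  rw [Matrix.map_apply, ← minor_minor h2 e1 e2 e3]
  rcases I with I | I <;> rcases J with J | J <;> fin_cases I <;> fin_cases J <;>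
    simp [psiM, mn, pr, sx, sy] <;> ring

local notation "eA" => (Pi.single (Sum.inl 0) (1 : F) : V4)
local notation "eB" => (Pi.single (Sum.inl 1) (1 : F) : V4)

/-- The short root group of a singular line. -/
def IsShort (e v : V4) (s : Sp4) : Prop :=
  ∃ r : F, ∀ x, act s x = x + r • (B x v • e + B x e • v)

omit h2 in
theorem IsShort.conj {e v : V4} {s : Sp4} (hs : IsShort e v s) (g : Sp4) :
    IsShort (act g e) (act g v) (g * s * g⁻¹) := by
  obtain ⟨r, hr⟩ := hs
  refine ⟨r, fun x => ?_⟩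
  have hB : ∀ w, B (act g⁻¹ x) w = B x (act g w) := fun w => by
    conv_rhs => rw [← act_act_inv g x, act_pres]
  rw [act_mul, act_mul, hr, hB, hB, act_add, act_smul, act_add, act_smul, act_smul, act_act_inv]

theorem mat_tv {s : Sp4} {l : F} (hl : ∀ x, act s x = x + (l * B x eA) • eA) :
    (s : M4) = 1 + Matrix.single (Sum.inl 0) (Sum.inr 0) l := by
  refine Matrix.ext_of_mulVec_single fun j => ?_
  rw [show (s : M4) *ᵥ Pi.single j 1 = act s (Pi.single j 1) from rfl, hl, Matrix.add_mulVec,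
    Matrix.one_mulVec]
  congr 1
  funext i
  rcases i with i | i <;> rcases j with j | j <;> fin_cases i <;> fin_cases j <;>
    simp [Cfsg.sympForm, B, Matrix.J, Matrix.single, Matrix.mulVec, dotProduct, sum_I4,
      Matrix.one_apply, Pi.single_apply, neg_eq' h2]

theorem mat_short {s : Sp4} {r : F} (hr : ∀ x, act s x = x + r • (B x eB • eA + B x eA • eB)) :
    (s : M4) = 1 + (Matrix.single (Sum.inl 0) (Sum.inr 1) r +
      Matrix.single (Sum.inl 1) (Sum.inr 0) r) := by
  refine Matrix.ext_of_mulVec_single fun j => ?_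
  rw [show (s : M4) *ᵥ Pi.single j 1 = act s (Pi.single j 1) from rfl, hr, Matrix.add_mulVec,
    Matrix.one_mulVec]
  congr 1
  funext i
  rcases i with i | i <;> rcases j with j | j <;> fin_cases i <;> fin_cases j <;>
    simp [Cfsg.sympForm, B, Matrix.J, Matrix.single, Matrix.mulVec, dotProduct, sum_I4,
      Matrix.one_apply, Pi.single_apply, neg_eq' h2]

omit h2 in
theorem exists_short (r : F) (h2 : (2 : F) = 0) :
    ∃ s : Sp4, ∀ x, act s x = x + r • (B x eB • eA + B x eA • eB) := by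
  have hab : B eA eB = 0 ∧ B eB eA = 0 := by
    constructor <;> simp [Cfsg.sympForm, B, Matrix.J, dotProduct, sum_I4, Matrix.mulVec,
      Matrix.one_apply, Pi.single_apply]
  obtain ⟨s₁, h₁⟩ := exists_tv (eA + eB) r
  obtain ⟨s₂, h₂⟩ := exists_tv eA r
  obtain ⟨s₃, h₃⟩ := exists_tv eB r
  refine ⟨s₁ * (s₂ * s₃), fun x => ?_⟩
  simp only [act_mul, h₁, h₂, h₃, add_left, add_right, smul_left, self_zero, hab.1, hab.2]
  linear_combination (norm := module) h2 • ((r * B x eA) • eA + (r * B x eB) • eB)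

theorem psi_tv {s t : Sp4} {l : F} (hl : ∀ x, act s x = x + (l * B x eA) • eA)
    (ht : ∀ x, act t x = x + l • (B x eB • eA + B x eA • eB)) : psi h2 s = t := by
  refine Subtype.ext ?_
  rw [psi_coe, mat_tv h2 hl, mat_short h2 ht]
  ext (I | I) (J | J) <;> fin_cases I <;> fin_cases J <;>
    simp [psiM, mn, pr, Matrix.single, Matrix.one_apply] <;>
    linear_combination (0 : F) * h2

theorem psi_short {s : Sp4} (hs : IsShort eA eB s) : psi h2 s ∈ cen eA := by
  obtain ⟨r, hr⟩ := hs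
  obtain ⟨t, ht⟩ := exists_tv eA (r * r)
  refine ⟨r * r, fun x => ?_⟩
  have e : psi h2 s = t := Subtype.ext (by
    rw [psi_coe, mat_tv h2 ht, mat_short h2 hr]
    ext (I | I) (J | J) <;> fin_cases I <;> fin_cases J <;>
      simp [psiM, mn, pr, Matrix.single, Matrix.one_apply] <;>
      linear_combination (0 : F) * h2)
  rw [e, ht]

theorem tv_ne_short {s : Sp4} (hs : IsShort eA eB s) (hs1 : s ≠ 1) {d : V4} : s ∉ cen d := by
  obtain ⟨r, hr⟩ := hs
  rintro ⟨l, hl⟩
  have hr0 : r ≠ 0 := fun e => hs1 (ext_act fun x => by rw [hr, e, zero_smul, add_zero, act_one])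
  have h1 := (hr (Pi.single (Sum.inr 0) 1)).symm.trans (hl _)
  have h3 := (hr (Pi.single (Sum.inr 1) 1)).symm.trans (hl _)
  rw [add_right_inj] at h1 h3
  have a1 := congrFun h1 (Sum.inl 0)
  have a2 := congrFun h1 (Sum.inl 1)
  have b1 := congrFun h3 (Sum.inl 0)
  simp [Cfsg.sympForm, B, Matrix.J, dotProduct, sum_I4, Matrix.mulVec, Matrix.one_apply,
    Pi.single_apply, hr0, neg_eq' h2] at a1 a2 b1
  have hd0 : d (Sum.inl 0) ≠ 0 := fun e => by simp [e, hr0] at b1
  have hd1 : d (Sum.inl 1) ≠ 0 := fun e => by simp [e, hr0] at a2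
  simp [hd0] at a1
  simp [a1, hr0] at a2

variable [Finite F]

omit [Finite F] in
theorem psi_injective : Function.Injective (psi h2) := by
  intro s t e
  have e2 : psiM (psiM (s : M4)) = psiM (psiM (t : M4)) := by rw [← psi_coe h2, e, psi_coe]
  rw [psiM_psiM h2 s.2, psiM_psiM h2 t.2] at e2
  refine Subtype.ext (Matrix.map_injective (fun x y h => sub_eq_zero.1 (mul_self_eq_zero.1 ?_)) e2)
  linear_combination h + (y * y - x * y) * h2

/-- The exceptional automorphism. -/
noncomputable def gam : MulAut PSp4 :=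
  let e : MulAut Sp4 := MulEquiv.ofBijective (psi h2)
    (Finite.injective_iff_bijective.1 (psi_injective h2))
  QuotientGroup.congr _ _ e (Subgroup.characteristic_iff_map_eq.1 inferInstance e)

theorem gam_mk (s : Sp4) :
    gam h2 (π s) = π (psi h2 s) := rfl

theorem gam_comm_field (τ : F ≃+* F) :
    gam h2 * semi 1 τ = semi 1 τ * gam h2 := MulEquiv.ext fun x => by
  induction x using QuotientGroup.induction_on with
  | _ s =>
    show gam h2 (semi 1 τ (QuotientGroup.mk s)) = semi 1 τ (π (psi h2 s))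
    rw [semi_mk]
    show π (psi h2 (spConj 1 τ s)) = π (spConj 1 τ (psi h2 s))
    congr 1
    refine Subtype.ext ?_
    have key : ∀ u : Sp4, (spConj 1 τ u : M4) = (u : M4).map τ := fun u => by
      rw [spConj_coe]; simp
    rw [key, psi_coe, psi_coe, key, psiM_map]

theorem not_rel_gam {d : V4} : ¬ Rel (gam h2) eA d := by
  intro h
  obtain ⟨s, hs⟩ := exists_tv eA (1 : F)
  obtain ⟨t, ht⟩ := exists_short (1 : F) h2
  have hmem : gam h2 (π s) ∈ cenQ d := h ▸ Subgroup.mem_map_of_mem _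
    (Subgroup.mem_map_of_mem _ ⟨1, hs⟩)
  rw [gam_mk, psi_tv h2 hs ht] at hmem
  obtain ⟨u, hu, e⟩ := hmem
  have hinj : Function.Injective π := by
    rw [← MonoidHom.ker_eq_bot_iff, QuotientGroup.ker_mk', center_trivial_char_two h2]
  obtain rfl := hinj e
  refine tv_ne_short h2 ⟨1, ht⟩ (fun e1 => ?_) hu
  have e2 : psi h2 s = psi h2 1 := by rw [psi_tv h2 hs ht, e1, map_one]
  have := hs (Pi.single (Sum.inr 0) 1)
  rw [psi_injective h2 e2, act_one] at this
  have a := congrFun this (Sum.inl 0)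
  simp [Cfsg.sympForm, B, Matrix.J, dotProduct, sum_I4, Matrix.mulVec, Matrix.one_apply,
    Pi.single_apply] at a

omit h2 in
theorem card_centralizer_lt' {m : ℕ} (h2 : (2 : F) = 0) (hm : 2 ≤ m) (Fr : Frame F m)
    {u : Matrix.symplecticGroup (Fin m) F} (hu : u ∈ rad Fr.e) (hu0 : Fr.wt u ≠ 0)
    (hu1 : Fr.al u ≠ 0) {c : Fin m ⊕ Fin m → F} (hc : c ≠ 0)
    {t : Matrix.symplecticGroup (Fin m) F} (ht : t ∈ cen c) (ht1 : t ≠ 1) :
    Nat.card (Subgroup.centralizer ({u} : Set (Matrix.symplecticGroup (Fin m) F))) <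
      Nat.card (Subgroup.centralizer ({t} : Set (Matrix.symplecticGroup (Fin m) F))) := by
  classical
  have hn : ∀ x : F, -x = x := fun x => by linear_combination -x * h2
  obtain ⟨tE, htE⟩ := exists_tv Fr.e (1 : F)
  have htE1 : tE ≠ 1 := fun e => by
    have := htE Fr.f
    rw [e, act_one, Fr.hfe, one_mul, one_smul] at this
    exact Fr.e_ne_zero (add_eq_left.1 this.symm)
  have hc1 := card_centralizer_tv h2 Fr.e_ne_zero ⟨1, htE⟩ htE1
  rw [← card_centralizer_tv h2 hc ht ht1] at hc1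
  have hpos : 0 < Nat.card F ^ (2 * m) - 1 := by
    have : 2 ^ 1 ≤ Nat.card F ^ (2 * m) :=
      (Nat.pow_le_pow_right (by norm_num) (by omega)).trans
        (Nat.pow_le_pow_left Finite.one_lt_card _)
    omega
  rw [← Nat.eq_of_mul_eq_mul_right hpos hc1]
  have hfix : ∀ s, s * u = u * s → act s Fr.e = Fr.e := by
    intro s hs
    have hform : ∀ x, B (act u x) x = Fr.al u * (B x Fr.e * B x Fr.e) := fun x => by
      have e : act u x = x + ((B x Fr.e * Fr.al u + B (Fr.P x) (Fr.wt u)) • Fr.e +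
          B x Fr.e • Fr.wt u) := by
        conv_lhs => rw [Fr.decomp x, act_add, act_add, act_smul, act_smul, hu.1, Fr.act_f hu,
          Fr.act_W hu (Fr.P_mem x)]
        conv_rhs => arg 1; rw [Fr.decomp x]
        module
      have hx : B (Fr.wt u) x = B (Fr.wt u) (Fr.P x) := by
        conv_lhs => rw [Fr.decomp x, add_right, add_right, smul_right, smul_right, (Fr.wt_mem u).1,
          (Fr.wt_mem u).2]
        ring
      rw [e, add_left, self_zero, add_left, smul_left, smul_left, hx, swap (Fr.P x) (Fr.wt u),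
        swap x Fr.e, hn, hn]
      linear_combination (B x Fr.e * B (Fr.P x) (Fr.wt u)) * h2
    have hB : ∀ x, B (act s x) Fr.e = B x Fr.e := fun x => by
      have e1 := hform (act s x)
      rw [← act_mul, ← hs, act_mul, act_pres, hform x] at e1
      have e2 := mul_left_cancel₀ hu1 e1
      have e3 : (B (act s x) Fr.e - B x Fr.e) * (B (act s x) Fr.e - B x Fr.e) = 0 := by
        linear_combination -e2 + (B x Fr.e * B x Fr.e - B (act s x) Fr.e * B x Fr.e) * h2
      exact sub_eq_zero.1 (mul_self_eq_zero.1 e3)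
    refine eq_of_forall fun w => ?_
    obtain ⟨x, rfl⟩ : ∃ x, act s x = w := ⟨_, act_act_inv s w⟩
    rw [act_pres, swap x Fr.e, ← hB, ← swap]
  have hle : Subgroup.centralizer ({u} : Set (Matrix.symplecticGroup (Fin m) F)) ≤
      Subgroup.centralizer {tE} := fun s hs => by
    rw [Subgroup.mem_centralizer_singleton_iff] at hs ⊢
    have he := hfix s hs
    refine ext_act fun x => ?_
    rw [act_mul, act_mul, htE, htE, act_add, act_smul, he]
    congr 3
    conv_rhs => rw [← he]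
    exact (act_pres s _ _).symm
  obtain ⟨w, hw, hvw⟩ := Fr.exists_W_one (Fr.wt_mem u) hu0
  have hne : Fr.wt u + w ≠ 0 := fun e => by
    rw [eq_neg_of_add_eq_zero_right e, ← neg_one_smul F, smul_right, self_zero, mul_zero] at hvw
    exact zero_ne_one hvw
  obtain ⟨s, hse, hsf, hsv⟩ := Fr.exists_map_W (Fr.wt_mem u) (add_mem (Fr.wt_mem u) hw) hu0 hne
  refine lt_of_le_of_ne (Nat.card_le_card_of_injective _ (Subgroup.inclusion_injective hle))
    fun e => ?_
  have heq := Subgroup.eq_of_le_of_card_ge hle e.ge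
  have hs : s ∈ Subgroup.centralizer ({tE} : Set (Matrix.symplecticGroup (Fin m) F)) := by
    rw [Subgroup.mem_centralizer_singleton_iff]
    refine ext_act fun x => ?_
    rw [act_mul, act_mul, htE, htE, act_add, act_smul, hse]
    congr 3
    conv_rhs => rw [← hse]
    exact (act_pres s _ _).symm
  rw [← heq, Subgroup.mem_centralizer_singleton_iff] at hs
  have hL : Fr.InL s 1 := ⟨one_ne_zero, by rw [hse, one_smul], by rw [hsf, inv_one, one_smul]⟩
  have h1 := (hL.conj_rad Fr hu).2.1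
  rw [show s * u * s⁻¹ = u by rw [hs, mul_inv_cancel_right], hsv, one_smul, left_eq_add] at h1
  rw [h1, zero_right] at hvw
  exact zero_ne_one hvw

theorem exists_rel_or (p : ℕ) [Fact p.Prime] [CharP F p] (β : MulAut PSp4) :
    ∃ c d : V4, c ≠ 0 ∧ d ≠ 0 ∧ (Rel β c d ∨ Rel (gam h2 * β) c d) := by
  have hinj : Function.Injective π := by
    rw [← MonoidHom.ker_eq_bot_iff, QuotientGroup.ker_mk', center_trivial_char_two h2]
  have hA : eA ≠ 0 := by simp
  obtain ⟨S, hS, hSc⟩ := exists_sylow p one_le_two hA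
  have hsur : Function.Surjective β.toMonoidHom := β.surjective
  obtain ⟨S', hS'⟩ : ∃ S' : Sylow p PSp4,
      (S' : Subgroup PSp4) = (S : Subgroup PSp4).map β.toMonoidHom :=
    ⟨S.mapSurjective hsur, Sylow.coe_mapSurjective hsur S⟩
  obtain ⟨d, hd, -, -, -, hcent⟩ := center_sylow p one_le_two S'
  obtain ⟨Fr, rfl⟩ := Frame.exists_of_ne hd
  have himg : ∀ t ∈ cen eA, ∃ u ∈ rad Fr.e, π u = β (π t) ∧ (Fr.wt u = 0 ∨ Fr.al u = 0) := by
    intro t ht
    have hmem : β (π t) ∈ (S' : Subgroup PSp4) := hS' ▸ Subgroup.mem_map_of_mem β.toMonoidHom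
      (hS (Subgroup.mem_map_of_mem _ (cen_le_rad _ ht)))
    have hcomm : β (π t) ∈ Subgroup.centralizer ((S' : Subgroup PSp4) : Set PSp4) := by
      refine Subgroup.mem_centralizer_iff.2 fun y hy => ?_
      obtain ⟨y, hy', rfl⟩ := hS' ▸ hy
      exact (map_mul β _ _).symm.trans ((congrArg β
        (Subgroup.mem_centralizer_iff.1 (hSc (Subgroup.mem_map_of_mem _ ht)) y hy')).trans
          (map_mul β _ _))
    obtain ⟨u, hu, hπ, -⟩ := hcent _ hmem hcomm
    refine ⟨u, hu, hπ, ?_⟩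
    by_contra h0
    rw [not_or] at h0
    have ht1 : t ≠ 1 := fun e => by
      rw [e, map_one, map_one] at hπ
      exact h0.1 (by rw [hinj (hπ.trans (map_one π).symm), Fr.wt_one])
    have hlt := card_centralizer_lt' h2 le_rfl Fr hu h0.1 h0.2 hA ht ht1
    have hiso : (Subgroup.centralizer ({(QuotientGroup.mk t : PSp4)} : Set PSp4)).map β.toMonoidHom =
        Subgroup.centralizer ({(QuotientGroup.mk u : PSp4)} : Set PSp4) := by
      have e : β (QuotientGroup.mk t) = (QuotientGroup.mk u : PSp4) := hπ.symm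
      ext y
      simp only [Subgroup.mem_map, Subgroup.mem_centralizer_singleton_iff]
      constructor
      · rintro ⟨x, hx, rfl⟩
        rw [← e]
        exact (map_mul β _ _).symm.trans ((congrArg β hx).trans (map_mul β _ _))
      · intro hy
        obtain ⟨x, rfl⟩ := β.surjective y
        exact ⟨x, β.injective (by rw [map_mul, map_mul, e]; exact hy), rfl⟩
    have hcard := Nat.card_congr
      (Subgroup.equivMapOfInjective (Subgroup.centralizer ({(QuotientGroup.mk t : PSp4)} : Set PSp4))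
        β.toMonoidHom β.injective).toEquiv
    rw [hiso, card_centralizer_mk h2, card_centralizer_mk h2] at hcard
    omega
  by_cases hall : ∀ t ∈ cen eA, ∀ u ∈ rad Fr.e, π u = β (π t) → Fr.wt u = 0
  · refine ⟨_, Fr.e, hA, Fr.e_ne_zero, Or.inl (Subgroup.eq_of_le_of_card_ge ?_ ?_)⟩
    · rintro _ ⟨_, ⟨t, ht, rfl⟩, rfl⟩
      obtain ⟨u, hu, hπ, -⟩ := himg t ht
      exact ⟨u, Fr.mem_cen_iff_wt.2 ⟨hu, hall t ht u hu hπ⟩, hπ⟩
    · rw [Subgroup.card_map_of_injective β.injective, card_cenQ p hA, card_cenQ p Fr.e_ne_zero]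
  push Not at hall
  obtain ⟨t₁, ht₁, u₁, hu₁, hπ₁, hw₁⟩ := hall
  have hal₁ : Fr.al u₁ = 0 := by
    obtain ⟨u', hu', hπ', h'⟩ := himg t₁ ht₁
    obtain rfl := hinj (hπ'.trans hπ₁.symm)
    exact h'.resolve_left hw₁
  have hshort : ∀ t ∈ cen eA, ∃ u ∈ rad Fr.e, π u = β (π t) ∧ Fr.al u = 0 ∧
      B (Fr.wt u) (Fr.wt u₁) = 0 := by
    intro t ht
    obtain ⟨u, hu, hπ, hor⟩ := himg t ht
    obtain ⟨u', hu', hπ', hor'⟩ := himg (t * t₁) (mul_mem ht ht₁)
    obtain rfl : u' = u * u₁ := hinj (by rw [hπ', map_mul π t, map_mul β, ← hπ, ← hπ₁, map_mul π u])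
    rw [Fr.wt_mul hu hu₁, Fr.al_mul hu hu₁, hal₁, add_zero] at hor'
    have hal : Fr.al u = 0 := by
      by_contra h0
      have hw := hor.resolve_right h0
      rw [hw, zero_add, zero_right, add_zero] at hor'
      exact hor'.elim hw₁ h0
    refine ⟨u, hu, hπ, hal, ?_⟩
    rcases hor' with h' | h'
    · rw [eq_neg_of_add_eq_zero_left h', ← neg_one_smul F, smul_left, self_zero, mul_zero]
    · rw [hal, zero_add] at h'
      first
        | exact h'
        | exact eq_zero_comm.1 h'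
  obtain ⟨g₁, hg₁⟩ := exists_map hA Fr.e_ne_zero
  obtain ⟨F₀, hF₀e⟩ := Frame.exists_of_ne (F := F) hA
  have hBab : B eB eA = 0 := by
    simp [Cfsg.sympForm, B, Matrix.J, dotProduct, sum_I4, Matrix.mulVec, Matrix.one_apply,
      Pi.single_apply]
  have hba : ∀ a : F, eB ≠ a • eA := fun a e => by simpa using congrFun e (Sum.inl 1)
  obtain ⟨v', hv'⟩ : ∃ v', v' = act g₁⁻¹ (Fr.wt u₁) := ⟨_, rfl⟩
  -- map the standard line onto the line of `d` and `wt u₁`
  obtain ⟨G, κ, hGa, hGb⟩ : ∃ (G : Sp4) (κ : F), act G eA = Fr.e ∧ act G eB = Fr.wt u₁ + κ • Fr.e := by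
    have hPb : F₀.P eB ≠ 0 := fun e => hba (-B eB F₀.f) (by
      conv_lhs => rw [F₀.decomp eB, hF₀e, hBab, e, zero_smul, add_zero, add_zero])
    have hv'e : B v' F₀.e = 0 := by
      rw [hF₀e, ← act_pres g₁, hv', act_act_inv, hg₁, (Fr.wt_mem u₁).1]
    have hPv : F₀.P v' ≠ 0 := fun e => by
      have hv1 : v' = (-B v' F₀.f) • F₀.e := by
        conv_lhs => rw [F₀.decomp v', hv'e, e, zero_smul, add_zero, add_zero]
      have e2 := congrArg (act g₁) hv1
      rw [hv', act_act_inv, act_smul, hF₀e, hg₁] at e2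
      have e3 := (Fr.wt_mem u₁).2
      rw [e2, smul_left, swap Fr.f Fr.e, Fr.hfe] at e3
      rw [show ∀ a : F, a * -1 = -a from fun a => mul_neg_one a, neg_eq_zero] at e3
      exact hw₁ (by rw [e2, e3, zero_smul])
    obtain ⟨h, hhe, -, hhb⟩ := F₀.exists_map_W (F₀.P_mem eB) (F₀.P_mem v') hPb hPv
    refine ⟨g₁ * h, -B eB F₀.f + B v' F₀.f, by rw [act_mul, ← hF₀e, hhe, hF₀e, hg₁], ?_⟩
    have e1 : act g₁ (F₀.P v') = Fr.wt u₁ + B v' F₀.f • Fr.e := by
      rw [Frame.P, act_sub, act_add, act_smul, act_smul, hv'e, zero_smul, hF₀e, hg₁, hv',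
        act_act_inv]
      module
    rw [act_mul]
    conv_lhs => rw [F₀.decomp eB, hF₀e, hBab, zero_smul, add_zero, act_add, act_smul, ← hF₀e, hhe,
      hhb, act_add, act_smul, hF₀e, hg₁, e1]
    module
  refine ⟨_, act (psi h2 G) eA, hA, act_ne_zero _ hA, Or.inr (Subgroup.eq_of_le_of_card_ge ?_ ?_)⟩
  swap
  · rw [Subgroup.card_map_of_injective (MulEquiv.injective _), card_cenQ p hA,
      card_cenQ p (act_ne_zero _ hA)]
  rintro _ ⟨_, ⟨t, ht, rfl⟩, rfl⟩
  obtain ⟨u, hu, hπ, hal, horth⟩ := hshort t ht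
  obtain ⟨k, hk⟩ : ∃ k : F, Fr.wt u = k • Fr.wt u₁ := by
    obtain ⟨z, hz⟩ : ∃ z, z = act G⁻¹ (Fr.wt u) := ⟨_, rfl⟩
    have za : B z eA = 0 := by
      rw [← act_pres G, hz, act_act_inv, hGa, (Fr.wt_mem u).1]
    have zb : B z eB = 0 := by
      rw [← act_pres G, hz, act_act_inv, hGb, add_right, smul_right, horth, (Fr.wt_mem u).1,
        mul_zero, add_zero]
    simp [Cfsg.sympForm, B, Matrix.J, dotProduct, sum_I4, Matrix.mulVec, Matrix.one_apply,
      Pi.single_apply] at za zb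
    have hz' : z = z (Sum.inl 0) • eA + z (Sum.inl 1) • eB := by
      funext i
      rcases i with i | i <;> fin_cases i <;> simp [za, zb]
    have e2 := congrArg (act G) hz'
    rw [hz, act_act_inv, act_add, act_smul, act_smul, hGa, hGb] at e2
    have e3 := (Fr.wt_mem u).2
    rw [e2, add_left, smul_left, smul_left, add_left, smul_left, (Fr.wt_mem u₁).2, zero_add,
      swap Fr.f Fr.e, Fr.hfe] at e3
    refine ⟨act G⁻¹ (Fr.wt u) (Sum.inl 1), ?_⟩
    conv_lhs => rw [e2]
    linear_combination (norm := module) -e3 • Fr.e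
  have hshort' : IsShort eA eB (G⁻¹ * u * G) := by
    have h' : IsShort Fr.e (act G eB) u := by
      refine ⟨k, fun x => ?_⟩
      have e : act u x = x + ((B x Fr.e * Fr.al u + B (Fr.P x) (Fr.wt u)) • Fr.e +
          B x Fr.e • Fr.wt u) := by
        conv_lhs => rw [Fr.decomp x, act_add, act_add, act_smul, act_smul, hu.1, Fr.act_f hu,
          Fr.act_W hu (Fr.P_mem x)]
        conv_rhs => arg 1; rw [Fr.decomp x]
        module
      have hx : B x (Fr.wt u₁) = B (Fr.P x) (Fr.wt u₁) := by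
        conv_lhs => rw [Fr.decomp x, add_left, add_left, smul_left, smul_left,
          eq_zero_comm.1 (Fr.wt_mem u₁).1, eq_zero_comm.1 (Fr.wt_mem u₁).2, mul_zero, mul_zero,
          zero_add, zero_add]
      rw [e, hal, hk, smul_right, hGb, add_right, smul_right, hx]
      linear_combination (norm := module) -h2 • ((k * (B x Fr.e * κ)) • Fr.e)
    have := h'.conj G⁻¹
    rwa [inv_inv, ← hGa, act_inv_act, act_inv_act] at this
  obtain ⟨w, hw, hwe⟩ : π (psi h2 (G⁻¹ * u * G)) ∈ cenQ eA :=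
    Subgroup.mem_map_of_mem _ (psi_short h2 hshort')
  refine ⟨psi h2 G * w * (psi h2 G)⁻¹, cen_conj _ hw, ?_⟩
  show _ = gam h2 (β (π t))
  rw [← hπ, gam_mk, map_mul π (psi h2 G * w), map_mul π (psi h2 G), hwe, map_inv π,
    map_mul (psi h2), map_mul (psi h2), map_inv (psi h2), map_mul π, map_mul π, map_inv π]
  group

theorem exists_semi_or (β : MulAut PSp4) :
    β ∈ semiSub ∨ gam h2 * β ∈ semiSub := by
  obtain ⟨p, hp⟩ := CharP.exists F
  haveI : Fact p.Prime := ⟨CharP.char_is_prime F p⟩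
  obtain ⟨Fr⟩ := exists_frame (F := F) (le_refl 2)
  obtain ⟨c, d, hc, hd, h | h⟩ := exists_rel_or h2 p β
  · exact Or.inl (exists_semi_of_rel p Fr le_rfl β hc hd h)
  · exact Or.inr (exists_semi_of_rel p Fr le_rfl _ hc hd h)

theorem gam_not_mem : gam h2 ∉ semiSub := by
  rintro ⟨g, τ, e⟩
  refine not_rel_gam h2 (d := sm (g : GL I4 F) τ eA) ?_
  rw [e]
  exact rel_semi g τ _

theorem index_semiSub :
    (semiSub : Subgroup (MulAut PSp4)).index = 2 := by
  rw [Subgroup.index_eq_two_iff]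
  have hsq : gam h2 * gam h2 ∈ semiSub :=
    (exists_semi_or h2 (gam h2)).resolve_left (gam_not_mem h2)
  refine ⟨gam h2, fun b => ?_⟩
  by_cases hb : b ∈ semiSub
  · refine Or.inr ⟨hb, fun h' => gam_not_mem h2 ?_⟩
    rw [← inv_mul_cancel_left b (gam h2)]
    exact mul_mem (inv_mem hb) h'
  · refine Or.inl ⟨?_, hb⟩
    refine (exists_semi_or h2 (b * gam h2)).elim id fun h' => ?_
    have hgb := (exists_semi_or h2 b).resolve_left hb
    exfalso
    refine gam_not_mem h2 ?_
    rw [← inv_mul_cancel_left (gam h2 * b) (gam h2)]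
    refine mul_mem (inv_mem hgb) ?_
    rwa [mul_assoc]

end Cfsg.Agent.AutPSp
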