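import Cfsg.Agent.Lib.AutPSp.Frame
import Mathlib.GroupTheory.GroupAction.Quotient

/-!
In characteristic two, centralisers of transvections are bigger than those of the other central elements of a
Sylow subgroup (`m ≥ 3`).
-/

set_option autoImplicit false

namespace Cfsg.Agent.AutPSp

open Matrix

variable {F : Type*} [Field F] {m : ℕ}

local notation "Vm" => Fin m ⊕ Fin m → F
local notation "Spm" => Matrix.symplecticGroup (Fin m) F
local notation "PSpm" => Cfsg.PSp m F

/-- The elements of the plane spanned by two vectors. -/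
def plane (x y : Vm) : Set Vm := Set.range fun r : F × F => r.1 • x + r.2 • y

theorem act_plane (s : Spm) (x y : Vm) : act s '' plane x y = plane (act s x) (act s y) := by
  rw [plane, plane, ← Set.range_comp]
  congr 1
  funext r
  simp [act_add, act_smul]

/-- Transitivity on the nonzero vectors of the orthogonal of a pair, fixing the pair. -/
theorem Frame.exists_map_W (Fr : Frame F m) {v w : Vm} (hv : v ∈ Fr.W) (hw : w ∈ Fr.W)
    (hv0 : v ≠ 0) (hw0 : w ≠ 0) : ∃ s : Spm, act s Fr.e = Fr.e ∧ act s Fr.f = Fr.f ∧ act s v = w := by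
  have key : ∀ a b : Vm, a ∈ Fr.W → b ∈ Fr.W → B a b ≠ 0 →
      ∃ s : Spm, act s Fr.e = Fr.e ∧ act s Fr.f = Fr.f ∧ act s a = b := by
    intro a b ha hb hab
    obtain ⟨s, hs⟩ := exists_tv (b - a) (B a b)⁻¹
    refine ⟨s, ?_, ?_, ?_⟩
    · rw [hs, sub_right, eq_zero_comm.1 hb.1, eq_zero_comm.1 ha.1]; simp
    · rw [hs, sub_right, eq_zero_comm.1 hb.2, eq_zero_comm.1 ha.2]; simp
    · rw [hs, sub_right, self_zero, sub_zero, inv_mul_cancel₀ hab, one_smul]; abel
  obtain ⟨z₁, hz₁, h1⟩ := Fr.exists_W_one hv hv0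
  obtain ⟨z₂, hz₂, h2⟩ := Fr.exists_W_one hw hw0
  obtain ⟨z, hz, hvz, hwz⟩ : ∃ z ∈ Fr.W, B v z ≠ 0 ∧ B w z ≠ 0 := by
    by_cases h3 : B w z₁ = 0
    · by_cases h4 : B v z₂ = 0
      · exact ⟨z₁ + z₂, add_mem hz₁ hz₂, by simp [add_right, h1, h4], by simp [add_right, h2, h3]⟩
      · exact ⟨z₂, hz₂, h4, by simp [h2]⟩
    · exact ⟨z₁, hz₁, by simp [h1], h3⟩
  obtain ⟨s, hs1, hs2, hs3⟩ := key v z hv hz hvz
  obtain ⟨t, ht1, ht2, ht3⟩ := key z w hz hw (fun e => hwz (eq_zero_comm.1 e))
  exact ⟨t * s, by rw [act_mul, hs1, ht1], by rw [act_mul, hs2, ht2], by rw [act_mul, hs3, ht3]⟩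

theorem Frame.exists_map_plane (Fr : Frame F m) {v : Vm} (hv : v ∈ Fr.W) (hv0 : v ≠ 0) {x y : Vm}
    (hx : x ≠ 0) (hyx : B y x = 0) (hy : ∀ a : F, y ≠ a • x) :
    ∃ s : Spm, act s '' plane Fr.e v = plane x y := by
  obtain ⟨g, hg⟩ := exists_map Fr.e_ne_zero hx
  obtain ⟨y', hy'⟩ : ∃ y', y' = act g⁻¹ y := ⟨_, rfl⟩
  have hye : B y' Fr.e = 0 := by
    rw [← act_pres g, hy', act_act_inv, hg, hyx]
  obtain ⟨c, hc⟩ : ∃ c, c = -B y' Fr.f := ⟨_, rfl⟩
  have hyd : y' = c • Fr.e + Fr.P y' := by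
    rw [hc]
    conv_lhs => rw [Fr.decomp y', hye, zero_smul, add_zero]
  have hgy : y = c • x + act g (Fr.P y') := by
    rw [← hg, ← act_smul, ← act_add, ← hyd, hy', act_act_inv]
  have hw0 : Fr.P y' ≠ 0 := fun e0 => hy c (by rw [hgy, e0, act_zero, add_zero])
  obtain ⟨h, h1, -, h3⟩ := Fr.exists_map_W hv (Fr.P_mem y') hv0 hw0
  refine ⟨g * h, ?_⟩
  rw [act_plane, act_mul, act_mul, h1, h3, hg]
  have e : act g (Fr.P y') = y - c • x := by rw [hgy]; abel
  ext z
  simp only [plane, Set.mem_range, Prod.exists, e]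
  constructor
  · rintro ⟨a, b, rfl⟩
    exact ⟨a - b * c, b, by module⟩
  · rintro ⟨a, b, rfl⟩
    exact ⟨a + b * c, b, by module⟩

/-- The action on vectors. -/
@[reducible] def vecAction : MulAction Spm Vm :=
  { smul := act
    one_smul := act_one
    mul_smul := act_mul }

/-- The action on sets of vectors. -/
@[reducible] def setAction : MulAction Spm (Set Vm) :=
  { smul := fun s S => act s '' S
    one_smul := fun S => show act 1 '' S = S by simp [act_one]
    mul_smul := fun s t S => show act (s * t) '' S = act s '' (act t '' S) by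
      rw [← Set.image_comp]; congr 1; funext x; exact act_mul s t x }

attribute [local instance] vecAction setAction

variable [Finite F]

theorem center_trivial_char_two (h2 : (2 : F) = 0) : Subgroup.center Spm = ⊥ := by
  rw [eq_bot_iff]
  intro z hz
  obtain ⟨c, hc⟩ := (mem_center_iff z).1 hz
  rw [Subgroup.mem_bot]
  refine ext_act fun x => ?_
  rcases eq_or_ne x 0 with rfl | hx
  · rw [act_zero, act_zero]
  obtain ⟨w, hw⟩ := exists_one hx
  have e := act_pres z w x
  rw [hc, hc, smul_left, smul_right, hw, mul_one] at e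
  have : (c - 1) * (c - 1) = 0 := by linear_combination e + (1 - c) * h2
  rw [hc, sub_eq_zero.1 (mul_self_eq_zero.1 this), one_smul, act_one]

/-- The projection is bijective in characteristic two. -/
theorem card_centralizer_mk (h2 : (2 : F) = 0) (z : Spm) :
    Nat.card (Subgroup.centralizer ({(QuotientGroup.mk z : PSpm)} : Set PSpm)) =
      Nat.card (Subgroup.centralizer ({z} : Set Spm)) := by
  have hinj : Function.Injective (QuotientGroup.mk' (Subgroup.center Spm)) := by
    rw [← MonoidHom.ker_eq_bot_iff, QuotientGroup.ker_mk', center_trivial_char_two h2]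
  have heq : (Subgroup.centralizer ({z} : Set Spm)).map (QuotientGroup.mk' (Subgroup.center Spm)) =
      Subgroup.centralizer ({(QuotientGroup.mk z : PSpm)} : Set PSpm) := by
    ext y
    obtain ⟨s, rfl⟩ := QuotientGroup.mk'_surjective _ y
    simp only [Subgroup.mem_map, Subgroup.mem_centralizer_singleton_iff]
    constructor
    · rintro ⟨t, ht, e⟩
      rw [← e]
      exact (map_mul _ _ _).symm.trans ((congrArg _ ht).trans (map_mul _ _ _))
    · intro e
      exact ⟨s, hinj (by rw [map_mul, map_mul]; exact e), rfl⟩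
  rw [← heq]
  exact (Nat.card_congr (Subgroup.equivMapOfInjective _ _ hinj).toEquiv).symm

/-- The centralisers of transvections. -/
theorem card_centralizer_tv (h2 : (2 : F) = 0) {c : Vm} (hc : c ≠ 0) {t : Spm} (ht : t ∈ cen c)
    (ht1 : t ≠ 1) : Nat.card (Subgroup.centralizer ({t} : Set Spm)) *
      (Nat.card F ^ (2 * m) - 1) = Nat.card Spm := by
  obtain ⟨l, hl⟩ := ht
  have hl0 : l ≠ 0 := fun e => ht1 (ext_act fun x => by rw [hl, e, act_one]; simp)
  have hstab : Subgroup.centralizer ({t} : Set Spm) = MulAction.stabilizer Spm c := by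
    ext s
    rw [Subgroup.mem_centralizer_singleton_iff, MulAction.mem_stabilizer_iff]
    show s * t = t * s ↔ act s c = c
    constructor
    · intro e
      obtain ⟨x, hx⟩ := exists_one hc
      have e1 := congrArg (fun g : Spm => act g x) e
      simp only [act_mul, hl, act_add, act_smul, hx, mul_one, add_right_inj] at e1
      obtain ⟨a, ha⟩ : ∃ a : F, act s c = a • c :=
        ⟨l⁻¹ * (l * B (act s x) c), by rw [mul_smul, ← e1, inv_smul_smul₀ hl0]⟩
      have hb : B (act s x) c = a := by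
        rw [ha] at e1
        have := smul_left_injective F hc ((smul_smul l a c).symm.trans e1)
        exact (mul_left_cancel₀ hl0 this).symm
      have e2 := act_pres s x c
      rw [ha, smul_right, hb, hx] at e2
      have : (a - 1) * (a - 1) = 0 := by linear_combination e2 + (1 - a) * h2
      rw [ha, sub_eq_zero.1 (mul_self_eq_zero.1 this), one_smul]
    · intro e
      refine ext_act fun x => ?_
      rw [act_mul, act_mul, hl, hl, act_add, act_smul, e]
      congr 3
      conv_rhs => rw [← e]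
      exact (act_pres s _ _).symm
  have horb : MulAction.orbit Spm c = {x | x ≠ 0} := by
    ext x
    constructor
    · rintro ⟨s, rfl⟩
      exact act_ne_zero s hc
    · intro hx
      obtain ⟨s, hs⟩ := exists_map hc hx
      exact ⟨s, hs⟩
  have hidx : (MulAction.stabilizer Spm c).index = Nat.card F ^ (2 * m) - 1 :=
    (MulAction.index_stabilizer Spm c).trans ((congrArg Set.ncard horb).trans (by
      rw [show ({x : Vm | x ≠ 0} : Set Vm) = Set.univ \ {0} by ext; simp,
        Set.ncard_sdiff_singleton_of_mem (Set.mem_univ _), Set.ncard_univ, Nat.card_fun, Nat.card_sum,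
        Nat.card_fin, two_mul]))
  rw [hstab, ← Subgroup.card_mul_index (MulAction.stabilizer Spm c), hidx]

/-- The centralisers of the other elements of the radical in the transvection class's centre. -/
theorem Frame.card_centralizer_lt (h2 : (2 : F) = 0) (hm : 3 ≤ m) (Fr : Frame F m) {u : Spm}
    (hu : u ∈ rad Fr.e) (hu0 : Fr.wt u ≠ 0) {c : Vm} (hc : c ≠ 0) {t : Spm} (ht : t ∈ cen c)
    (ht1 : t ≠ 1) : Nat.card (Subgroup.centralizer ({u} : Set Spm)) <
      Nat.card (Subgroup.centralizer ({t} : Set Spm)) := by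
  classical
  obtain ⟨v, hv⟩ : ∃ v, v = Fr.wt u := ⟨_, rfl⟩
  have hvW : v ∈ Fr.W := hv ▸ Fr.wt_mem u
  have hv0 : v ≠ 0 := hv ▸ hu0
  obtain ⟨L, hL⟩ : ∃ L, L = plane Fr.e v := ⟨_, rfl⟩
  have himg : ∀ z : Vm, z ∈ L ↔ ∃ x, act u x - x = z := by
    intro z
    have hdiff : ∀ x, act u x - x =
        (B x Fr.e * Fr.al u + B (Fr.P x) v) • Fr.e + B x Fr.e • v := fun x => by
      conv_lhs => arg 1; rw [Fr.decomp x, act_add, act_add, act_smul, act_smul, hu.1, Fr.act_f hu,
        Fr.act_W hu (Fr.P_mem x), ← hv]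
      conv_lhs => arg 2; rw [Fr.decomp x]
      module
    constructor
    · intro hz
      rw [hL] at hz
      obtain ⟨⟨a, b⟩, rfl⟩ := hz
      obtain ⟨w, hw, hvw⟩ := Fr.exists_W_one hvW hv0
      refine ⟨b • Fr.f + (-(a - b * Fr.al u)) • w, ?_⟩
      obtain ⟨-, hxe, hxP⟩ := Fr.coord (Submodule.smul_mem _ (-(a - b * Fr.al u)) hw) (a := 0) (b := b)
        (x := b • Fr.f + (-(a - b * Fr.al u)) • w) (by simp)
      rw [hdiff, hxe, hxP, smul_left, swap v w, hvw]
      module
    · rintro ⟨x, rfl⟩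
      rw [hdiff, hL]
      exact ⟨(_, _), rfl⟩
  have hle : Subgroup.centralizer ({u} : Set Spm) ≤ MulAction.stabilizer Spm L := by
    intro s hs
    rw [Subgroup.mem_centralizer_singleton_iff] at hs
    rw [MulAction.mem_stabilizer_iff]
    show act s '' L = L
    ext z
    constructor
    · rintro ⟨y, hy, rfl⟩
      obtain ⟨x, rfl⟩ := (himg y).1 hy
      exact (himg _).2 ⟨act s x, by rw [act_sub, ← act_mul, ← act_mul, hs]⟩
    · intro hz
      obtain ⟨x, rfl⟩ := (himg z).1 hz
      refine ⟨act u (act s⁻¹ x) - act s⁻¹ x, (himg _).2 ⟨_, rfl⟩, ?_⟩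
      rw [act_sub, act_act_inv, ← act_mul, hs, act_mul, act_act_inv]
  have hT := card_centralizer_tv h2 hc ht ht1
  have h1 := Subgroup.card_mul_index (MulAction.stabilizer Spm L)
  rw [MulAction.index_stabilizer] at h1
  obtain ⟨O, hO⟩ : ∃ O, O = MulAction.orbit Spm L := ⟨_, rfl⟩
  rw [← hO] at h1
  obtain ⟨q, hq⟩ : ∃ q, q = Nat.card F := ⟨_, rfl⟩
  have hq2 : 2 ≤ q := hq ▸ Finite.one_lt_card
  -- pairs of orthogonal independent vectors
  let fib : {x : Vm // x ≠ 0} → Set Vm := fun x => {y | B y x.1 = 0 ∧ ∀ a : F, y ≠ a • x.1}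
  have hfib : ∀ x, Nat.card (fib x) + q = q ^ (2 * m - 1) := by
    intro x
    have hset : fib x = (LinearMap.ker (form x.1) : Set Vm) \ ((F ∙ x.1 : Submodule F Vm) : Set Vm) := by
      ext y
      simp only [fib, Set.mem_ofPred_eq, Set.mem_sdiff, SetLike.mem_coe, LinearMap.mem_ker, form_apply,
        Submodule.mem_span_singleton, not_exists, ne_comm]
    have hsub : ((F ∙ x.1 : Submodule F Vm) : Set Vm) ⊆ (LinearMap.ker (form x.1) : Set Vm) := by
      intro y hy
      obtain ⟨a, rfl⟩ := Submodule.mem_span_singleton.1 hy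
      show form x.1 (a • x.1) = 0
      rw [form_apply, smul_left, self_zero, mul_zero]
    rw [Nat.card_coe_set_eq, hset]
    have h3 := Set.ncard_sdiff_add_ncard_of_subset hsub
    have hF : ∀ S : Submodule F Vm, (S : Set Vm).ncard = q ^ Module.finrank F S := fun S => by
      rw [← Nat.card_coe_set_eq, hq]
      exact Module.natCard_eq_pow_finrank (K := F) (V := S)
    rw [hF, hF, finrank_span_singleton x.2, pow_one] at h3
    rw [h3]
    congr 1
    have h4 := LinearMap.finrank_range_add_finrank_ker (form x.1)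
    rw [ClassicalSp.finrank_space] at h4
    have h5 : Module.finrank F (LinearMap.range (form x.1)) = 1 := by
      rw [LinearMap.range_eq_top.2, finrank_top, Module.finrank_self]
      intro a
      obtain ⟨w, hw⟩ := exists_one x.2
      exact ⟨a • w, by rw [form_apply, smul_left, hw, mul_one]⟩
    omega
  have hO0 : ∀ (x : {x : Vm // x ≠ 0}) (y : fib x), ∃ S : O, x.1 ∈ (S : Set Vm) ∧ (y : Vm) ∈ (S : Set Vm) := by
    intro x y
    obtain ⟨g, hg⟩ := Fr.exists_map_plane hvW hv0 x.2 y.2.1 y.2.2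
    refine ⟨⟨plane x.1 y, by rw [hO]; exact ⟨g, by show act g '' L = _; rw [hL, hg]⟩⟩, ?_, ?_⟩
    · exact ⟨(1, 0), by simp⟩
    · exact ⟨(0, 1), by simp⟩
  have hrep : ∀ S : O, ∃ g : Spm, act g '' L = (S : Set Vm) := fun S => by
    obtain ⟨g, hg⟩ := (Set.ext_iff.1 hO S.1).1 S.2
    exact ⟨g, hg⟩
  choose S hS1 hS2 using hO0
  choose g hg using hrep
  have hcoord : ∀ (T : O) (z : Vm), z ∈ (T : Set Vm) → ∃ r : F × F, z = act (g T) (r.1 • Fr.e + r.2 • v) := by
    intro T z hz
    rw [← hg T, hL] at hz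
    obtain ⟨_, ⟨r, rfl⟩, rfl⟩ := hz
    exact ⟨r, rfl⟩
  choose r hr using hcoord
  have hcount : Nat.card ((x : {x : Vm // x ≠ 0}) × fib x) ≤ Nat.card (O × (F × F) × (F × F)) := by
    refine Nat.card_le_card_of_injective
      (fun P => (S P.1 P.2, r (S P.1 P.2) _ (hS1 P.1 P.2), r (S P.1 P.2) _ (hS2 P.1 P.2))) ?_
    rintro ⟨x, y⟩ ⟨x', y'⟩ e
    simp only [Prod.mk.injEq] at e
    obtain ⟨e1, e2, e3⟩ := e
    have hx : x = x' := Subtype.ext <| by
      rw [hr (S x y) _ (hS1 x y), hr (S x' y') _ (hS1 x' y'), e2, e1]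
    subst hx
    have hy : y = y' := Subtype.ext <| by
      rw [hr (S x y) _ (hS2 x y), hr (S x y') _ (hS2 x y'), e3, e1]
    rw [hy]
  haveI : Fintype {x : Vm // x ≠ 0} := Fintype.ofFinite _
  rw [Nat.card_sigma, Nat.card_prod, Nat.card_prod, Nat.card_prod] at hcount
  have hfib' : ∀ x, Nat.card (fib x) = q ^ (2 * m - 1) - q := fun x => by
    have := hfib x
    omega
  simp only [hfib', Finset.sum_const, Finset.card_univ, smul_eq_mul] at hcount
  rw [← Nat.card_eq_fintype_card, ← hq] at hcount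
  have hne : Nat.card {x : Vm // x ≠ 0} = q ^ (2 * m) - 1 := by
    rw [show Nat.card {x : Vm // x ≠ 0} = ({x : Vm | x ≠ 0} : Set Vm).ncard from Nat.card_coe_set_eq _,
      show ({x : Vm | x ≠ 0} : Set Vm) = Set.univ \ {0} by ext; simp,
      Set.ncard_sdiff_singleton_of_mem (Set.mem_univ _), Set.ncard_univ,
      Nat.card_fun, Nat.card_sum, Nat.card_fin, two_mul, hq]
  rw [hne, Nat.card_coe_set_eq] at hcount
  rw [← hq] at hT
  have hbig : q ^ 4 < q ^ (2 * m - 1) - q := by
    have h6 : q ^ 5 ≤ q ^ (2 * m - 1) := Nat.pow_le_pow_right (by omega) (by omega)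
    have h7 : q < q ^ 4 := by
      calc q = q ^ 1 := (pow_one q).symm
        _ < q ^ 4 := Nat.pow_lt_pow_right (by omega) (by norm_num)
    have h8 : 2 * q ^ 4 ≤ q ^ 5 := by rw [pow_succ q 4, mul_comm (q ^ 4)]; exact Nat.mul_le_mul_right _ hq2
    omega
  have hq0 : 0 < q ^ (2 * m) - 1 := by
    have h14 : q ^ 1 ≤ q ^ (2 * m) := Nat.pow_le_pow_right (by omega) (by omega)
    rw [pow_one] at h14
    omega
  have hOgt : q ^ (2 * m) - 1 < O.ncard := by
    by_contra hlt
    push Not at hlt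
    have h9 : O.ncard * (q * q * (q * q)) ≤ (q ^ (2 * m) - 1) * q ^ 4 := by
      rw [show q * q * (q * q) = q ^ 4 by ring]; exact Nat.mul_le_mul_right _ hlt
    have h10 : (q ^ (2 * m) - 1) * q ^ 4 < (q ^ (2 * m) - 1) * (q ^ (2 * m - 1) - q) :=
      Nat.mul_lt_mul_of_pos_left hbig hq0
    exact absurd (hcount.trans h9) (not_le.2 h10)
  have hC : Nat.card (Subgroup.centralizer ({u} : Set Spm)) ≤
      Nat.card (MulAction.stabilizer Spm L) :=
    Nat.card_le_card_of_injective (Subgroup.inclusion hle) (Subgroup.inclusion_injective hle)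
  have hpos : 0 < Nat.card (MulAction.stabilizer Spm L) := Nat.card_pos
  by_contra hlt
  push Not at hlt
  have h11 := Nat.mul_le_mul_right (q ^ (2 * m) - 1) (hlt.trans hC)
  rw [hT, ← h1] at h11
  exact absurd (Nat.le_of_mul_le_mul_left h11 hpos) (not_le.2 hOgt)

end Cfsg.Agent.AutPSp
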