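import Cfsg.Agent.Lib.AutPSp.Main
import Mathlib.FieldTheory.Finite.Basic

/-!
The automorphisms of `PSp_{2m}` over a finite field.
-/

set_option autoImplicit false

namespace Cfsg.Agent.AutPSp

open Matrix

variable {F : Type*} [Field F] {m : ℕ}

local notation "Vm" => Fin m ⊕ Fin m → F
local notation "Mm" => Matrix (Fin m ⊕ Fin m) (Fin m ⊕ Fin m) F
local notation "PSpm" => Cfsg.PSp m F
local notation "GSpm" => Cfsg.GSp m F
local notation "GLm" => GL (Fin m ⊕ Fin m) F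

theorem exists_frame (hm : 2 ≤ m) : Nonempty (Frame F m) := by
  have hx : (Pi.single (Sum.inl ⟨0, by omega⟩) 1 : Vm) ≠ 0 := fun e => by
    simpa using congrFun e (Sum.inl ⟨0, by omega⟩)
  obtain ⟨w, hw⟩ := exists_one hx
  exact ⟨⟨_, w, hw⟩⟩

variable [Finite F]

theorem exists_semi' (hm : 2 ≤ m) (h4 : (2 : F) ≠ 0 ∨ 3 ≤ m) (β : MulAut PSpm) :
    ∃ (g : GSpm) (τ : F ≃+* F), β = semi g τ := by
  obtain ⟨p, hp⟩ := CharP.exists F
  haveI : Fact p.Prime := ⟨CharP.char_is_prime F p⟩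
  obtain ⟨Fr⟩ := exists_frame (F := F) hm
  exact exists_semi p Fr hm h4 β

theorem semi_eq_one_iff (hm : 2 ≤ m) {g : GSpm} {τ : F ≃+* F} :
    (semi g τ : MulAut PSpm) = 1 ↔
      τ = 1 ∧ ∃ a : F, ∀ x : Vm, ((g : GLm) : Mm) *ᵥ x = a • x := by
  constructor
  · intro h'
    obtain ⟨p, hp⟩ := CharP.exists F
    haveI : Fact p.Prime := ⟨CharP.char_is_prime F p⟩
    obtain ⟨Fr⟩ := exists_frame (F := F) hm
    exact semi_eq_one_imp p Fr hm h'
  · rintro ⟨rfl, a, ha⟩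
    exact semi_scalar g a ha

omit [Finite F] in
theorem two_ne_zero_or (hm : 2 ≤ m) {p : ℕ} [Fact p.Prime] [CharP F p] (h4 : m = 2 → p ≠ 2) :
    (2 : F) ≠ 0 ∨ 3 ≤ m := by
  by_cases h2 : m = 2
  · refine Or.inl fun e => h4 h2 ?_
    exact ((Nat.prime_dvd_prime_iff_eq (Fact.out : p.Prime) Nat.prime_two).1
      ((CharP.cast_eq_zero_iff F p 2).1 (by exact_mod_cast e)))
  · exact Or.inr (by omega)

end Cfsg.Agent.AutPSp
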