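import Cfsg.Agent.Lib.AutPSp.Basic

/-!
Hyperbolic pairs, the radical of the stabiliser of a point and the transvection groups in `Sp_{2m}`.
-/

set_option autoImplicit false

namespace Cfsg.Agent.AutPSp

open Matrix

variable {F : Type*} [Field F] {m : ℕ}

local notation "Vm" => Fin m ⊕ Fin m → F
local notation "Mm" => Matrix (Fin m ⊕ Fin m) (Fin m ⊕ Fin m) F
local notation "Spm" => Matrix.symplecticGroup (Fin m) F

/-- A hyperbolic pair. -/
structure Frame (F : Type*) [Field F] (m : ℕ) where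
  e : Fin m ⊕ Fin m → F
  f : Fin m ⊕ Fin m → F
  hfe : B f e = 1

/-- The transvection group of the vector `c`. -/
def cen (c : Vm) : Subgroup Spm where
  carrier := {s | ∃ l : F, ∀ x, act s x = x + (l * B x c) • c}
  one_mem' := ⟨0, fun x => by rw [act_one]; simp⟩
  mul_mem' := by
    rintro s t ⟨l, hl⟩ ⟨k, hk⟩
    refine ⟨l + k, fun x => ?_⟩
    rw [act_mul, hk, hl, add_left, smul_left, self_zero, mul_zero, add_zero, add_assoc, ← add_smul]
    congr 2
    ring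
  inv_mem' := by
    rintro s ⟨l, hl⟩
    refine ⟨-l, fun x => act_inj s ?_⟩
    rw [act_act_inv, hl, add_left, smul_left, self_zero, mul_zero, add_zero, add_assoc, ← add_smul]
    ring_nf
    simp

/-- The radical of the stabiliser of the point of `e`. -/
def rad (e : Vm) : Subgroup Spm where
  carrier := {s | act s e = e ∧ ∀ w, B w e = 0 → ∃ l : F, act s w = w + l • e}
  one_mem' := ⟨act_one e, fun w _ => ⟨0, by rw [act_one]; simp⟩⟩
  mul_mem' := by
    rintro s t ⟨hs, hs'⟩ ⟨ht, ht'⟩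
    refine ⟨by rw [act_mul, ht, hs], fun w hw => ?_⟩
    obtain ⟨k, hk⟩ := ht' w hw
    obtain ⟨l, hl⟩ := hs' w hw
    exact ⟨l + k, by rw [act_mul, hk, act_add, act_smul, hl, hs, add_assoc, ← add_smul]⟩
  inv_mem' := by
    rintro s ⟨hs, hs'⟩
    have hi : act s⁻¹ e = e := by
      conv_lhs => rw [← hs]
      exact act_inv_act s e
    refine ⟨hi, fun w hw => ?_⟩
    obtain ⟨l, hl⟩ := hs' w hw
    refine ⟨-l, act_inj s ?_⟩
    rw [act_act_inv, act_add, act_smul, hl, hs, add_assoc, ← add_smul, add_neg_cancel, zero_smul,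
      add_zero]

theorem mem_cen {c : Vm} {s : Spm} :
    s ∈ cen c ↔ ∃ l : F, ∀ x, act s x = x + (l * B x c) • c := Iff.rfl

theorem mem_rad {e : Vm} {s : Spm} :
    s ∈ rad e ↔ act s e = e ∧ ∀ w, B w e = 0 → ∃ l : F, act s w = w + l • e := Iff.rfl

theorem cen_le_rad (c : Vm) : cen c ≤ rad c := fun s ⟨l, hl⟩ =>
  ⟨by rw [hl, self_zero, mul_zero, zero_smul, add_zero],
    fun w hw => ⟨0, by rw [hl, hw, mul_zero]⟩⟩

theorem cen_conj {c : Vm} (t : Spm) {s : Spm} (hs : s ∈ cen c) : t * s * t⁻¹ ∈ cen (act t c) := by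
  obtain ⟨l, hl⟩ := hs
  refine ⟨l, fun x => ?_⟩
  have e : B (act t⁻¹ x) c = B x (act t c) := by
    conv_rhs => rw [← act_act_inv t x]
    exact (act_pres t _ _).symm
  rw [act_mul, act_mul, hl, act_add, act_smul, act_act_inv, e]

theorem rad_conj {e : Vm} (t : Spm) {s : Spm} (hs : s ∈ rad e) : t * s * t⁻¹ ∈ rad (act t e) := by
  refine ⟨by rw [act_mul, act_mul, act_inv_act, hs.1], fun w hw => ?_⟩
  obtain ⟨l, hl⟩ := hs.2 (act t⁻¹ w) (by rw [← act_pres t, act_act_inv]; exact hw)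
  exact ⟨l, by rw [act_mul, act_mul, hl, act_add, act_smul, act_act_inv]⟩

theorem cen_smul {a : F} (ha : a ≠ 0) (c : Vm) : cen (a • c) = cen c := by
  ext s
  simp only [mem_cen, smul_right]
  constructor
  · rintro ⟨l, hl⟩
    exact ⟨l * a * a, fun x => by rw [hl, smul_smul]; congr 2; ring⟩
  · rintro ⟨l, hl⟩
    refine ⟨l / (a * a), fun x => ?_⟩
    rw [hl, smul_smul]
    congr 2
    field_simp

theorem rad_smul {a : F} (ha : a ≠ 0) (e : Vm) : rad (a • e) = rad e := by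
  ext s
  simp only [mem_rad, act_smul, smul_right, mul_eq_zero, ha, false_or]
  constructor
  · rintro ⟨h1, h2⟩
    refine ⟨smul_right_injective _ ha h1, fun w hw => ?_⟩
    obtain ⟨l, hl⟩ := h2 w hw
    exact ⟨l * a, by rw [hl, smul_smul]⟩
  · rintro ⟨h1, h2⟩
    refine ⟨by rw [h1], fun w hw => ?_⟩
    obtain ⟨l, hl⟩ := h2 w hw
    exact ⟨l / a, by rw [hl, smul_smul, div_mul_cancel₀ _ ha]⟩

namespace Frame

theorem exists_of_ne {c : Vm} (hc : c ≠ 0) : ∃ Fr : Frame F m, Fr.e = c := by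
  obtain ⟨w, hw⟩ := exists_one hc
  exact ⟨⟨c, w, hw⟩, rfl⟩

variable (Fr : Frame F m)

theorem hef : B Fr.e Fr.f = -1 := by rw [swap Fr.f Fr.e, Fr.hfe]

theorem e_ne_zero : Fr.e ≠ 0 := fun e0 => by
  have := Fr.hfe
  rw [e0, zero_right] at this
  exact zero_ne_one this

theorem f_ne_zero : Fr.f ≠ 0 := fun e0 => by
  have := Fr.hfe
  rw [e0, zero_left] at this
  exact zero_ne_one this

/-- Projection to the orthogonal of the pair. -/
def P (x : Vm) : Vm := x + B x Fr.f • Fr.e - B x Fr.e • Fr.f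

/-- The orthogonal of the pair. -/
def W : Submodule F Vm where
  carrier := {v | B v Fr.e = 0 ∧ B v Fr.f = 0}
  add_mem' := fun {a b} ha hb => by simp_all [add_left]
  zero_mem' := ⟨zero_left _, zero_left _⟩
  smul_mem' c a ha := by simp_all [smul_left]

theorem mem_W {v : Vm} : v ∈ Fr.W ↔ B v Fr.e = 0 ∧ B v Fr.f = 0 := Iff.rfl

theorem decomp (x : Vm) : x = (-B x Fr.f) • Fr.e + B x Fr.e • Fr.f + Fr.P x := by
  rw [P, neg_smul]; abel

theorem P_mem (x : Vm) : Fr.P x ∈ Fr.W := by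
  constructor
  · rw [P, sub_left, add_left, smul_left, smul_left, self_zero, Fr.hfe]; ring
  · rw [P, sub_left, add_left, smul_left, smul_left, self_zero, Fr.hef]; ring

theorem coord {a b : F} {v : Vm} (hv : v ∈ Fr.W) {x : Vm} (hx : x = a • Fr.e + b • Fr.f + v) :
    B x Fr.f = -a ∧ B x Fr.e = b ∧ Fr.P x = v := by
  subst hx
  have h1 : B (a • Fr.e + b • Fr.f + v) Fr.f = -a := by
    rw [add_left, add_left, smul_left, smul_left, Fr.hef, self_zero, hv.2]; ring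
  have h2 : B (a • Fr.e + b • Fr.f + v) Fr.e = b := by
    rw [add_left, add_left, smul_left, smul_left, self_zero, Fr.hfe, hv.1]; ring
  refine ⟨h1, h2, ?_⟩
  rw [P, h1, h2, neg_smul]; abel

theorem P_of_mem {v : Vm} (hv : v ∈ Fr.W) : Fr.P v = v := by simp [P, hv.1, hv.2]

theorem P_add (x y : Vm) : Fr.P (x + y) = Fr.P x + Fr.P y := by
  simp only [P, add_left, add_smul]; abel

theorem P_smul (c : F) (x : Vm) : Fr.P (c • x) = c • Fr.P x := by
  simp only [P, smul_left, smul_sub, smul_add, mul_smul]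

theorem P_e : Fr.P Fr.e = 0 := by simp [P, Fr.hef, self_zero]

theorem P_f : Fr.P Fr.f = 0 := by simp [P, Fr.hfe, self_zero]

theorem B_decomp (x y : Vm) :
    B x y = B x Fr.f * B y Fr.e - B x Fr.e * B y Fr.f + B (Fr.P x) (Fr.P y) := by
  have h1 : B (Fr.P x) Fr.e = 0 := (Fr.P_mem x).1
  have h2 : B (Fr.P x) Fr.f = 0 := (Fr.P_mem x).2
  have h3 : B Fr.e (Fr.P y) = 0 := eq_zero_comm.1 (Fr.P_mem y).1
  have h4 : B Fr.f (Fr.P y) = 0 := eq_zero_comm.1 (Fr.P_mem y).2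
  conv_lhs => rw [Fr.decomp x, Fr.decomp y]
  simp only [add_left, add_right, smul_left, smul_right, h1, h2, h3, h4, self_zero, Fr.hef, Fr.hfe]
  ring

theorem W_nondeg {v : Vm} (hv : v ∈ Fr.W) (H : ∀ w ∈ Fr.W, B v w = 0) : v = 0 :=
  nondeg fun x => by
    rw [Fr.B_decomp v x, hv.1, hv.2, Fr.P_of_mem hv, H _ (Fr.P_mem x)]
    ring

theorem W_eq_of_forall {v v' : Vm} (hv : v ∈ Fr.W) (hv' : v' ∈ Fr.W)
    (H : ∀ w ∈ Fr.W, B v w = B v' w) : v = v' :=
  sub_eq_zero.1 (Fr.W_nondeg (sub_mem hv hv') fun w hw => by rw [sub_left, H w hw, sub_self])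

theorem exists_W_one {v : Vm} (hv : v ∈ Fr.W) (hv0 : v ≠ 0) : ∃ w ∈ Fr.W, B v w = 1 := by
  obtain ⟨w, hw, hvw⟩ : ∃ w ∈ Fr.W, B v w ≠ 0 := by
    by_contra! h
    exact hv0 (Fr.W_nondeg hv h)
  exact ⟨(B v w)⁻¹ • w, Submodule.smul_mem _ _ hw, by rw [smul_right, inv_mul_cancel₀ hvw]⟩

theorem exists_W_ne_zero (hm : 2 ≤ m) : ∃ v ∈ Fr.W, v ≠ 0 := by
  by_contra! hall
  have hle : (⊤ : Submodule F Vm) ≤ Submodule.span F {Fr.e, Fr.f} := fun x _ => by
    rw [Fr.decomp x, hall _ (Fr.P_mem x), add_zero]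
    exact add_mem (Submodule.smul_mem _ _ (Submodule.subset_span (Set.mem_insert _ _)))
      (Submodule.smul_mem _ _ (Submodule.subset_span (Set.mem_insert_of_mem _ rfl)))
  have h1 := Submodule.finrank_mono hle
  rw [finrank_top, ClassicalSp.finrank_space] at h1
  classical
  have h2 := finrank_span_le_card (R := F) ({Fr.e, Fr.f} : Set Vm)
  have h3 : ({Fr.e, Fr.f} : Set Vm).toFinset.card ≤ 2 := by
    rw [Set.toFinset_insert, Set.toFinset_singleton]
    exact Finset.card_le_two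
  omega

theorem ext_frame {s t : Spm} (he : act s Fr.e = act t Fr.e) (hf : act s Fr.f = act t Fr.f)
    (hw : ∀ v ∈ Fr.W, act s v = act t v) : s = t := ext_act fun x => by
  rw [Fr.decomp x, act_add, act_add, act_smul, act_smul, he, hf, hw _ (Fr.P_mem x), act_add,
    act_add, act_smul, act_smul]

/-- The weight of an element of the radical. -/
def wt (s : Spm) : Vm := Fr.P (act s Fr.f)

/-- The central coordinate of an element of the radical. -/
def al (s : Spm) : F := -B (act s Fr.f) Fr.f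

theorem act_f {s : Spm} (hs : s ∈ rad Fr.e) : act s Fr.f = Fr.al s • Fr.e + Fr.f + Fr.wt s := by
  conv_lhs => rw [Fr.decomp (act s Fr.f)]
  have e : B (act s Fr.f) Fr.e = 1 := by
    conv_lhs => rw [← hs.1]
    exact (act_pres s _ _).trans Fr.hfe
  rw [e, one_smul]
  rfl

theorem wt_mem (s : Spm) : Fr.wt s ∈ Fr.W := Fr.P_mem _

theorem act_W {s : Spm} (hs : s ∈ rad Fr.e) {w : Vm} (hw : w ∈ Fr.W) :
    act s w = w + B w (Fr.wt s) • Fr.e := by
  obtain ⟨l, hl⟩ := hs.2 w hw.1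
  have e1 := act_pres s w Fr.f
  have e2 : B w (Fr.wt s) = l := by
    rw [hl, Fr.act_f hs, hw.2] at e1
    simp only [add_left, add_right, smul_left, smul_right, hw.1, hw.2, Fr.hef, self_zero,
      eq_zero_comm.1 (Fr.wt_mem s).1, mul_zero, zero_add, add_zero, mul_one] at e1
    linear_combination e1
  rw [hl, e2]

theorem rad_ext {s t : Spm} (hs : s ∈ rad Fr.e) (ht : t ∈ rad Fr.e) (h1 : Fr.al s = Fr.al t)
    (h2 : Fr.wt s = Fr.wt t) : s = t :=
  Fr.ext_frame (hs.1.trans ht.1.symm) (by rw [Fr.act_f hs, Fr.act_f ht, h1, h2])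
    fun v hv => by rw [Fr.act_W hs hv, Fr.act_W ht hv, h2]

theorem act_rad_mul_f {s t : Spm} (hs : s ∈ rad Fr.e) (ht : t ∈ rad Fr.e) :
    act (s * t) Fr.f = (Fr.al s + Fr.al t + B (Fr.wt t) (Fr.wt s)) • Fr.e + (1 : F) • Fr.f +
      (Fr.wt s + Fr.wt t) := by
  rw [act_mul, Fr.act_f ht, act_add, act_add, act_smul, hs.1, Fr.act_f hs,
    Fr.act_W hs (Fr.wt_mem t), add_smul, add_smul, one_smul]
  abel

theorem wt_mul {s t : Spm} (hs : s ∈ rad Fr.e) (ht : t ∈ rad Fr.e) :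
    Fr.wt (s * t) = Fr.wt s + Fr.wt t :=
  (Fr.coord (add_mem (Fr.wt_mem s) (Fr.wt_mem t)) (Fr.act_rad_mul_f hs ht)).2.2

theorem al_mul {s t : Spm} (hs : s ∈ rad Fr.e) (ht : t ∈ rad Fr.e) :
    Fr.al (s * t) = Fr.al s + Fr.al t + B (Fr.wt t) (Fr.wt s) := by
  rw [al, (Fr.coord (add_mem (Fr.wt_mem s) (Fr.wt_mem t)) (Fr.act_rad_mul_f hs ht)).1, neg_neg]

theorem wt_one : Fr.wt (1 : Spm) = 0 := by rw [wt, act_one, Fr.P_f]

theorem al_one : Fr.al (1 : Spm) = 0 := by rw [al, act_one, self_zero, neg_zero]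

theorem exists_rad {v : Vm} (hv : v ∈ Fr.W) (a : F) :
    ∃ s ∈ rad Fr.e, Fr.wt s = v ∧ Fr.al s = a := by
  have hve : B Fr.e v = 0 := eq_zero_comm.1 hv.1
  have hu : B (a • Fr.e + v) Fr.e = 0 := by rw [add_left, smul_left, self_zero, hv.1]; ring
  obtain ⟨s, hs⟩ := exists_Sp (Transvec.tvMat (a • Fr.e + v) (form Fr.e) *
    Transvec.tvMat Fr.e (form v)) (fun x y => by
      simp only [← Matrix.mulVec_mulVec, Transvec.tvMat_mulVec, form_apply, add_left, add_right,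
        smul_left, smul_right, self_zero, hve, hv.1, swap y Fr.e, swap y v]
      ring)
  have hs' : ∀ x, act s x = x + B x v • Fr.e + B x Fr.e • (a • Fr.e + v) := fun x => by
    rw [hs, ← Matrix.mulVec_mulVec, Transvec.tvMat_mulVec, Transvec.tvMat_mulVec, form_apply,
      form_apply, add_left, smul_left, self_zero, mul_zero, add_zero]
  have hsf : act s Fr.f = a • Fr.e + (1 : F) • Fr.f + v := by
    rw [hs', Fr.hfe, eq_zero_comm.1 hv.2, zero_smul, add_zero, one_smul, one_smul]; abel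
  obtain ⟨c1, -, c3⟩ := Fr.coord hv hsf
  refine ⟨s, ⟨?_, fun w hw => ⟨B w v, ?_⟩⟩, c3, by rw [al, c1, neg_neg]⟩
  · rw [hs', self_zero, hve]; simp
  · rw [hs', hw]; simp

theorem exists_wt {v : Vm} (hv : v ∈ Fr.W) : ∃ s ∈ rad Fr.e, Fr.wt s = v := by
  obtain ⟨s, hs, h1, -⟩ := Fr.exists_rad hv 0
  exact ⟨s, hs, h1⟩

theorem exists_rad_of_point {y : Vm} (hye : B y Fr.e = 1) :
    ∃ s ∈ rad Fr.e, act s Fr.f = y := by
  obtain ⟨s, hs, h1, h2⟩ := Fr.exists_rad (Fr.P_mem y) (-B y Fr.f)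
  refine ⟨s, hs, ?_⟩
  rw [Fr.act_f hs, h1, h2]
  conv_rhs => rw [Fr.decomp y, hye, one_smul]

theorem mem_cen_iff_wt {s : Spm} : s ∈ cen Fr.e ↔ s ∈ rad Fr.e ∧ Fr.wt s = 0 := by
  constructor
  · intro hs
    refine ⟨cen_le_rad _ hs, ?_⟩
    obtain ⟨l, hl⟩ := hs
    rw [wt, hl, Fr.hfe, mul_one, Fr.P_add, Fr.P_smul, Fr.P_e, Fr.P_f]
    simp
  · rintro ⟨hs, h0⟩
    refine ⟨Fr.al s, fun x => ?_⟩
    conv_lhs => rw [Fr.decomp x]
    rw [act_add, act_add, act_smul, act_smul, hs.1, Fr.act_f hs, Fr.act_W hs (Fr.P_mem x), h0,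
      zero_right]
    conv_rhs => arg 1; rw [Fr.decomp x]
    simp only [zero_smul, add_zero, smul_add, smul_smul, mul_comm (Fr.al s)]
    abel

theorem wt_pow {s : Spm} (hs : s ∈ rad Fr.e) (k : ℕ) : Fr.wt (s ^ k) = k • Fr.wt s := by
  induction k with
  | zero => rw [pow_zero, Fr.wt_one, zero_nsmul]
  | succ k ih => rw [pow_succ, Fr.wt_mul (pow_mem hs k) hs, ih, succ_nsmul]

theorem al_pow {s : Spm} (hs : s ∈ rad Fr.e) (h0 : Fr.wt s = 0) (k : ℕ) :
    Fr.al (s ^ k) = k • Fr.al s := by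
  induction k with
  | zero => rw [pow_zero, Fr.al_one, zero_nsmul]
  | succ k ih => rw [pow_succ, Fr.al_mul (pow_mem hs k) hs, ih, h0, zero_left, add_zero, succ_nsmul]

theorem rad_pow (p : ℕ) [CharP F p] {s : Spm} (hs : s ∈ rad Fr.e) : s ^ p ^ 2 = 1 := by
  have hv : ∀ v : Vm, p • v = 0 := fun v => by
    rw [← Nat.cast_smul_eq_nsmul F, CharP.cast_eq_zero, zero_smul]
  have h1 : Fr.wt (s ^ p) = 0 := by rw [Fr.wt_pow hs, hv]
  have h2 : Fr.al ((s ^ p) ^ p) = 0 := by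
    rw [Fr.al_pow (pow_mem hs p) h1, ← Nat.cast_smul_eq_nsmul F, CharP.cast_eq_zero, zero_smul]
  rw [pow_two, pow_mul]
  exact Fr.rad_ext (pow_mem (pow_mem hs p) p) (one_mem _) (h2.trans Fr.al_one.symm)
    (by rw [Fr.wt_pow (pow_mem hs p), h1, nsmul_zero, Fr.wt_one])

end Frame

end Cfsg.Agent.AutPSp
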