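import Cfsg.Agent.Lib.AutPSp.Torus

/-!
Every automorphism of `PSp_{2m}` (`m ≥ 2`, and `m ≥ 3` in characteristic two) is induced by a semilinear
similitude, uniquely up to scalars.
-/

set_option autoImplicit false

namespace Cfsg.Agent.AutPSp

open Matrix

variable {F : Type*} [Field F] {m : ℕ}

local notation "Vm" => Fin m ⊕ Fin m → F
local notation "Mm" => Matrix (Fin m ⊕ Fin m) (Fin m ⊕ Fin m) F
local notation "Spm" => Matrix.symplecticGroup (Fin m) F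
local notation "PSpm" => Cfsg.PSp m F
local notation "GSpm" => Cfsg.GSp m F
local notation "GLm" => GL (Fin m ⊕ Fin m) F
local notation "π" => QuotientGroup.mk' (Subgroup.center Spm)

theorem sum_right {ι : Type*} (s : Finset ι) (v : Vm) (x : ι → Vm) :
    B v (∑ i ∈ s, x i) = ∑ i ∈ s, B v (x i) :=
  map_sum (AddMonoidHom.mk' (fun w => B v w) (fun a b => add_right v a b)) x s

theorem spConj_mem_cen (g : GSpm) (τ : F ≃+* F) {c : Vm} {s : Spm} (hs : s ∈ cen c) :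
    spConj g τ s ∈ cen (sm (g : GLm) τ c) := by
  obtain ⟨l, hl⟩ := hs
  obtain ⟨k, hk0, hk⟩ := sm_pres g.2 τ
  refine ⟨τ l / k, fun x => ?_⟩
  obtain ⟨y, rfl⟩ := sm_surj (g : GLm) τ x
  rw [act_spConj, hl, sm_add, sm_smul, map_mul, hk]
  congr 2
  field_simp

theorem spConj_mem_rad (g : GSpm) (τ : F ≃+* F) {c : Vm} {s : Spm} (hs : s ∈ rad c) :
    spConj g τ s ∈ rad (sm (g : GLm) τ c) := by
  obtain ⟨k, hk0, hk⟩ := sm_pres g.2 τ
  refine ⟨by rw [act_spConj, hs.1], fun w hw => ?_⟩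
  obtain ⟨y, rfl⟩ := sm_surj (g : GLm) τ w
  rw [hk, mul_eq_zero, map_eq_zero] at hw
  obtain ⟨l, hl⟩ := hs.2 y (hw.resolve_left hk0)
  exact ⟨τ l, by rw [act_spConj, hl, sm_add, sm_smul]⟩

theorem rel_semi (g : GSpm) (τ : F ≃+* F) (c : Vm) :
    Rel (semi g τ : MulAut PSpm) c (sm (g : GLm) τ c) := by
  obtain ⟨g', h1, h2⟩ := exists_inverse g τ
  refine le_antisymm ?_ ?_
  · rintro _ ⟨_, ⟨s, hs, rfl⟩, rfl⟩
    exact ⟨spConj g τ s, spConj_mem_cen g τ hs, (semi_mk g τ s).symm⟩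
  · rintro _ ⟨t, ht, rfl⟩
    have hc : sm (g' : GLm) τ⁻¹ (sm (g : GLm) τ c) = c := by
      rw [sm_comp, h2, inv_mul_cancel, sm_one]
    have hmem := spConj_mem_cen g' τ⁻¹ ht
    rw [hc] at hmem
    refine ⟨_, Subgroup.mem_map_of_mem _ hmem, ?_⟩
    show semi g τ (QuotientGroup.mk _) = QuotientGroup.mk t
    rw [semi_mk, spConj_comp, h1, mul_inv_cancel, spConj_one]

/-- A semilinear map multiplying the form comes from the similitude group. -/
theorem exists_sm_eq (τ : F ≃+* F) {c : F} (hc : c ≠ 0) (Φ : Vm → Vm)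
    (hadd : ∀ x y, Φ (x + y) = Φ x + Φ y) (hsmul : ∀ (a : F) x, Φ (a • x) = τ a • Φ x)
    (hpres : ∀ x y, B (Φ x) (Φ y) = c * τ (B x y)) :
    ∃ g : GSpm, ∀ x, sm (g : GLm) τ x = Φ x := by
  obtain ⟨M, hM⟩ : ∃ M : Mm, M = Matrix.of fun r j => Φ (Pi.single j 1) r := ⟨_, rfl⟩
  have hMx : ∀ x, M *ᵥ (τ ∘ x) = Φ x := fun x => by
    conv_rhs => rw [pi_eq_sum_univ' x, show Φ = ⇑(AddMonoidHom.mk' Φ hadd) from rfl, map_sum]
    simp only [AddMonoidHom.mk'_apply, hsmul]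
    funext r
    rw [Finset.sum_apply, Matrix.mulVec, dotProduct]
    refine Finset.sum_congr rfl fun j _ => ?_
    rw [hM, Matrix.of_apply, Pi.smul_apply, smul_eq_mul, mul_comm]
    rfl
  have hMB : ∀ x y, B (M *ᵥ x) (M *ᵥ y) = c * B x y := fun x y => by
    obtain ⟨x', rfl⟩ : ∃ x', x = τ ∘ x' := ⟨τ.symm ∘ x, by
      rw [← Function.comp_assoc, comp_symm, Function.id_comp]⟩
    obtain ⟨y', rfl⟩ : ∃ y', y = τ ∘ y' := ⟨τ.symm ∘ y, by
      rw [← Function.comp_assoc, comp_symm, Function.id_comp]⟩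
    rw [hMx, hMx, hpres, B_map]
  have hu : IsUnit M := Matrix.mulVec_injective_iff_isUnit.1 fun x y e => eq_of_forall fun w => by
    refine mul_left_cancel₀ hc ?_
    rw [← hMB x w, ← hMB y w]
    exact congrArg (fun z => B z _) e
  exact ⟨⟨hu.unit, Units.mk0 c hc, hMB⟩, fun x => hMx x⟩

theorem semi_scalar (g : GSpm) (a : F) (hg : ∀ x : Vm, ((g : GLm) : Mm) *ᵥ x = a • x) :
    (semi g 1 : MulAut PSpm) = 1 := by
  refine MulEquiv.ext fun x => ?_
  induction x using QuotientGroup.induction_on with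
  | _ s =>
    rw [semi_mk]
    refine congrArg QuotientGroup.mk (ext_act fun x => ?_)
    obtain ⟨y, rfl⟩ := sm_surj (g : GLm) 1 x
    rw [act_spConj, sm, sm, show ((1 : F ≃+* F) : F → F) = id from rfl, Function.id_comp,
      Function.id_comp, hg, hg, act_smul]

theorem exists_rel_of_rel {β : MulAut PSpm} {c₀ d₀ : Vm} (hc₀ : c₀ ≠ 0) (hd₀ : d₀ ≠ 0)
    (h : Rel β c₀ d₀) {c : Vm} (hc : c ≠ 0) : ∃ d : Vm, d ≠ 0 ∧ Rel β c d := by
  obtain ⟨s, rfl⟩ := exists_map hc₀ hc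
  obtain ⟨t, ht⟩ := QuotientGroup.mk'_surjective _ (β (π s))
  exact ⟨_, act_ne_zero t hd₀, rel_compat h ht.symm⟩

variable [Finite F] (p : ℕ) [Fact p.Prime] [CharP F p] (Fr : Frame F m)
include p

/-- The action of an automorphism on the radical. -/
structure Lift (β : MulAut PSpm) where
  B' : Spm → Spm
  φ : Vm → Vm
  mem : ∀ u ∈ rad Fr.e, B' u ∈ rad Fr.e
  spec : ∀ u ∈ rad Fr.e, β (π u) = π (B' u)
  mul : ∀ u ∈ rad Fr.e, ∀ v ∈ rad Fr.e, B' (u * v) = B' u * B' v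
  cen_mem : ∀ u ∈ cen Fr.e, B' u ∈ cen Fr.e
  φ_mem : ∀ x ∈ Fr.W, φ x ∈ Fr.W
  φ_add : ∀ x ∈ Fr.W, ∀ y ∈ Fr.W, φ (x + y) = φ x + φ y
  φ_inj : ∀ x ∈ Fr.W, ∀ y ∈ Fr.W, φ x = φ y → x = y
  φ_surj : ∀ y ∈ Fr.W, ∃ x ∈ Fr.W, φ x = y
  φ_wt : ∀ u ∈ rad Fr.e, φ (Fr.wt u) = Fr.wt (B' u)

theorem exists_liftData (hm : 2 ≤ m) {β : MulAut PSpm} (he : Rel β Fr.e Fr.e) :
    Nonempty (Lift Fr β) := by
  classical
  have hmap := Fr.map_radQ p hm he
  have hex : ∀ u, ∃ u', u ∈ rad Fr.e → u' ∈ rad Fr.e ∧ β (π u) = π u' := fun u => by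
    by_cases hu : u ∈ rad Fr.e
    · obtain ⟨u', hu', e⟩ : β (π u) ∈ radQ Fr.e :=
        hmap ▸ Subgroup.mem_map_of_mem β.toMonoidHom (Subgroup.mem_map_of_mem _ hu)
      exact ⟨u', fun _ => ⟨hu', e.symm⟩⟩
    · exact ⟨1, fun h' => absurd h' hu⟩
  choose B' hB using hex
  have hmul : ∀ u ∈ rad Fr.e, ∀ v ∈ rad Fr.e, B' (u * v) = B' u * B' v := fun u hu v hv =>
    Fr.rad_mk_inj p (hB _ (mul_mem hu hv)).1 (mul_mem (hB u hu).1 (hB v hv).1) (by
      rw [map_mul π (B' u), ← (hB u hu).2, ← (hB v hv).2, ← (hB _ (mul_mem hu hv)).2, map_mul,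
        map_mul])
  have hcen : ∀ u ∈ rad Fr.e, (B' u ∈ cen Fr.e ↔ u ∈ cen Fr.e) := by
    intro u hu
    have he' : (cenQ Fr.e).map β.toMonoidHom = cenQ Fr.e := he
    constructor
    · intro hc
      obtain ⟨x, ⟨v, hv, rfl⟩, e⟩ : π (B' u) ∈ (cenQ Fr.e).map β.toMonoidHom :=
        he'.symm ▸ Subgroup.mem_map_of_mem _ hc
      have e' : π v = π u := β.injective (e.trans (hB u hu).2.symm)
      rwa [← Fr.rad_mk_inj p (cen_le_rad _ hv) hu e']
    · intro hc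
      obtain ⟨v, hv, e⟩ : β (π u) ∈ cenQ Fr.e :=
        he' ▸ Subgroup.mem_map_of_mem β.toMonoidHom (Subgroup.mem_map_of_mem _ hc)
      rwa [← Fr.rad_mk_inj p (cen_le_rad _ hv) (hB u hu).1 (e.trans (hB u hu).2)]
  have hsect : ∀ x, ∃ u, x ∈ Fr.W → u ∈ rad Fr.e ∧ Fr.wt u = x := fun x => by
    by_cases hx : x ∈ Fr.W
    · obtain ⟨u, hu, e⟩ := Fr.exists_wt hx
      exact ⟨u, fun _ => ⟨hu, e⟩⟩
    · exact ⟨1, fun h' => absurd h' hx⟩
  choose sec hsec using hsect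
  have hwell : ∀ u ∈ rad Fr.e, Fr.wt (B' (sec (Fr.wt u))) = Fr.wt (B' u) := by
    intro u hu
    obtain ⟨hs, hsw⟩ := hsec _ (Fr.wt_mem u)
    generalize sec (Fr.wt u) = v at hs hsw ⊢
    have hz : v⁻¹ * u ∈ cen Fr.e := by
      refine Fr.mem_cen_iff_wt.2 ⟨mul_mem (inv_mem hs) hu, ?_⟩
      have := Fr.wt_mul hs (mul_mem (inv_mem hs) hu)
      rw [mul_inv_cancel_left, hsw] at this
      simpa using this.symm
    have := Fr.wt_mul (hB v hs).1 (hB _ (cen_le_rad _ hz)).1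
    rw [← hmul v hs _ (cen_le_rad _ hz), mul_inv_cancel_left,
      (Fr.mem_cen_iff_wt.1 ((hcen _ (cen_le_rad _ hz)).2 hz)).2, add_zero] at this
    exact this.symm
  have hinj : ∀ x ∈ Fr.W, Fr.wt (B' (sec x)) = 0 → x = 0 := fun x hx e => by
    obtain ⟨hs, hsw⟩ := hsec x hx
    have := (hcen _ hs).1 (Fr.mem_cen_iff_wt.2 ⟨(hB _ hs).1, e⟩)
    rw [← hsw]
    exact (Fr.mem_cen_iff_wt.1 this).2
  have hadd : ∀ x ∈ Fr.W, ∀ y ∈ Fr.W,
      Fr.wt (B' (sec (x + y))) = Fr.wt (B' (sec x)) + Fr.wt (B' (sec y)) := fun x hx y hy => by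
    obtain ⟨hs, hsx⟩ := hsec x hx
    obtain ⟨ht, hty⟩ := hsec y hy
    rw [← Fr.wt_mul (hB _ hs).1 (hB _ ht).1, ← hmul _ hs _ ht, ← hwell _ (mul_mem hs ht),
      Fr.wt_mul hs ht, hsx, hty]
  refine ⟨{ B' := B', φ := fun x => Fr.wt (B' (sec x)), mem := fun u hu => (hB u hu).1,
            spec := fun u hu => (hB u hu).2, mul := hmul,
            cen_mem := fun u hu => (hcen u (cen_le_rad _ hu)).2 hu,
            φ_mem := fun x _ => Fr.wt_mem _, φ_add := hadd, φ_inj := ?_, φ_surj := ?_,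
            φ_wt := hwell }⟩
  · intro x hx y hy e
    have h1 := hadd (x - y) (sub_mem hx hy) y hy
    change Fr.wt (B' (sec x)) = Fr.wt (B' (sec y)) at e
    rw [sub_add_cancel, e, right_eq_add] at h1
    exact sub_eq_zero.1 (hinj _ (sub_mem hx hy) h1)
  · intro y hy
    obtain ⟨v, hv, rfl⟩ := Fr.exists_wt hy
    obtain ⟨x, ⟨u, hu, rfl⟩, e⟩ : π v ∈ (radQ Fr.e).map β.toMonoidHom :=
      hmap.symm ▸ Subgroup.mem_map_of_mem _ hv
    refine ⟨Fr.wt u, Fr.wt_mem _, ?_⟩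
    show Fr.wt (B' (sec (Fr.wt u))) = _
    rw [hwell u hu, Fr.rad_mk_inj p (hB u hu).1 hv ((hB u hu).2.symm.trans e)]

/-- Transport of the stabiliser. -/
theorem InL_of_rel {β : MulAut PSpm} (he : Rel β Fr.e Fr.e) (hf : Rel β Fr.f Fr.f) {s t : Spm}
    (e : β (π s) = π t) {d : F} (hs : Fr.InL s d) : ∃ d', Fr.InL t d' := by
  have he' := rel_compat he e
  have hf' := rel_compat hf e
  rw [hs.2.1] at he'
  rw [hs.2.2] at hf'
  have he'' : Rel β Fr.e (act t Fr.e) := by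
    rw [Rel] at he' ⊢
    rwa [cenQ_smul hs.1] at he'
  have hf'' : Rel β Fr.f (act t Fr.f) := by
    rw [Rel] at hf' ⊢
    rwa [cenQ_smul (inv_ne_zero hs.1)] at hf'
  obtain ⟨a, -, ha⟩ := rel_unique p Fr.e_ne_zero (act_ne_zero t Fr.e_ne_zero) he he''
  obtain ⟨b, -, hb⟩ := rel_unique p Fr.f_ne_zero (act_ne_zero t Fr.f_ne_zero) hf hf''
  exact ⟨a, Fr.mem_InL_of ha hb⟩

/-- Agreement with a semilinear similitude on the radical. -/
theorem exists_semi_rad (hm : 2 ≤ m) {β : MulAut PSpm} (he : Rel β Fr.e Fr.e)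
    (hf : Rel β Fr.f Fr.f) :
    ∃ (g : GSpm) (τ : F ≃+* F), Rel (semi g τ : MulAut PSpm) Fr.e Fr.e ∧
      Rel (semi g τ : MulAut PSpm) Fr.f Fr.f ∧
      ∀ u ∈ rad Fr.e, semi g τ (π u) = β (π u) := by
  classical
  obtain ⟨D⟩ := exists_liftData p Fr hm he
  have hequiv : ∀ s t, β (π s) = π t → ∀ d d', Fr.InL s d → Fr.InL t d' → ∀ x ∈ Fr.W,
      D.φ (d • act s x) = d' • act t (D.φ x) := by
    intro s t e d d' hs ht x hx
    obtain ⟨u, hu, rfl⟩ := Fr.exists_wt hx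
    have hconj : D.B' (s * u * s⁻¹) = t * D.B' u * t⁻¹ :=
      Fr.rad_mk_inj p (D.mem _ (hs.conj_rad Fr hu).1) (ht.conj_rad Fr (D.mem u hu)).1 (by
        rw [← D.spec _ (hs.conj_rad Fr hu).1, map_mul, map_mul, map_inv, map_mul, map_mul, map_inv,
          e, D.spec u hu, map_mul π (t * D.B' u), map_mul π t, map_inv π t])
    rw [← (hs.conj_rad Fr hu).2.1, D.φ_wt _ (hs.conj_rad Fr hu).1, hconj,
      (ht.conj_rad Fr (D.mem u hu)).2.1, D.φ_wt u hu]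
  -- semilinearity
  have hsurj : ∀ y, ∃ x, y ∈ Fr.W → x ∈ Fr.W ∧ D.φ x = y := fun y => by
    by_cases hy : y ∈ Fr.W
    · obtain ⟨x, hx, e⟩ := D.φ_surj y hy
      exact ⟨x, fun _ => ⟨hx, e⟩⟩
    · exact ⟨0, fun h' => absurd h' hy⟩
  choose ψ hψ using hsurj
  have hscal : ∀ a : F, ∃ b : F, ∀ x ∈ Fr.W, D.φ (a • x) = b • D.φ x := by
    intro a
    obtain ⟨b, hb⟩ := Fr.scalar_of_comm (fun y => D.φ (a • ψ y))
      (fun y hy => D.φ_mem _ (Submodule.smul_mem _ _ (hψ y hy).1))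
      (fun y hy y' hy' => by
        rw [← D.φ_add _ (Submodule.smul_mem _ _ (hψ y hy).1) _
          (Submodule.smul_mem _ _ (hψ y' hy').1), ← smul_add]
        congr 2
        refine D.φ_inj _ (hψ _ (add_mem hy hy')).1 _ (add_mem (hψ y hy).1 (hψ y' hy').1) ?_
        rw [(hψ _ (add_mem hy hy')).2, D.φ_add _ (hψ y hy).1 _ (hψ y' hy').1, (hψ y hy).2,
          (hψ y' hy').2])
      (fun t d' ht y hy => by
        obtain ⟨s, hs⟩ := QuotientGroup.mk'_surjective _ (β.symm (π t))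
        have e : β (π s) = π t := by rw [hs, MulEquiv.apply_symm_apply]
        obtain ⟨d, hd⟩ := InL_of_rel p Fr (rel_symm he) (rel_symm hf)
          (show β⁻¹ (π t) = π s from hs.symm) ht
        have hmem : d' • act t y ∈ Fr.W := Submodule.smul_mem _ _ (ht.mapsTo Fr hy)
        have hψe : ψ (d' • act t y) = d • act s (ψ y) := by
          refine D.φ_inj _ (hψ _ hmem).1 _ (Submodule.smul_mem _ _ (hd.mapsTo Fr (hψ y hy).1)) ?_
          rw [(hψ _ hmem).2, hequiv s t e d d' hd ht _ (hψ y hy).1, (hψ y hy).2]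
        rw [hψe, ← hequiv s t e d d' hd ht _ (Submodule.smul_mem _ _ (hψ y hy).1), act_smul]
        congr 1
        exact smul_comm _ _ _)
    refine ⟨b, fun x hx => ?_⟩
    have := hb (D.φ x) (D.φ_mem x hx)
    rwa [D.φ_inj _ (hψ _ (D.φ_mem x hx)).1 x hx (hψ _ (D.φ_mem x hx)).2] at this
  choose τf hτ using hscal
  obtain ⟨v₀, hv₀, hv₀0⟩ := Fr.exists_W_ne_zero hm
  have hφ0 : D.φ 0 = 0 := by
    have := D.φ_add 0 (zero_mem _) 0 (zero_mem _)
    simpa using this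
  have hb0 : D.φ v₀ ≠ 0 := fun e => hv₀0 (D.φ_inj _ hv₀ _ (zero_mem _) (e.trans hφ0.symm))
  have huniq : ∀ {a b : F}, D.φ (a • v₀) = b • D.φ v₀ → τf a = b := fun {a b} e =>
    smul_left_injective F hb0 ((hτ a _ hv₀).symm.trans e)
  let τh : F →+* F :=
    { toFun := τf
      map_one' := huniq (by rw [one_smul, one_smul])
      map_zero' := huniq (by rw [zero_smul, zero_smul, hφ0])
      map_mul' := fun a b => huniq (by
        rw [mul_smul, hτ a _ (Submodule.smul_mem _ _ hv₀), hτ b _ hv₀, mul_smul])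
      map_add' := fun a b => huniq (by
        rw [add_smul, D.φ_add _ (Submodule.smul_mem _ _ hv₀) _ (Submodule.smul_mem _ _ hv₀),
          hτ a _ hv₀, hτ b _ hv₀, add_smul]) }
  obtain ⟨τ, hτ'⟩ : ∃ τ : F ≃+* F, ∀ a, τ a = τf a :=
    ⟨RingEquiv.ofBijective τh (Finite.injective_iff_bijective.1 τh.injective), fun _ => rfl⟩
  have hφsmul : ∀ (a : F), ∀ x ∈ Fr.W, D.φ (a • x) = τ a • D.φ x := fun a x hx => by
    rw [hτ', hτ a x hx]
  -- the central coordinate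
  choose z hz hzw hza using fun a : F => Fr.exists_rad (zero_mem Fr.W) a
  obtain ⟨γ, hγ⟩ : ∃ γ : F → F, ∀ a, γ a = Fr.al (D.B' (z a)) := ⟨_, fun _ => rfl⟩
  have hzc : ∀ a, z a ∈ cen Fr.e := fun a => Fr.mem_cen_iff_wt.2 ⟨hz a, hzw a⟩
  have hγadd : ∀ a b, γ (a + b) = γ a + γ b := fun a b => by
    have e : z a * z b = z (a + b) := Fr.rad_ext (mul_mem (hz a) (hz b)) (hz _)
      (by rw [Fr.al_mul (hz a) (hz b), hza, hza, hza, hzw a, zero_right, add_zero])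
      (by rw [Fr.wt_mul (hz a) (hz b), hzw, hzw, hzw, add_zero])
    rw [hγ, hγ, hγ, ← e, D.mul _ (hz a) _ (hz b), Fr.al_mul (D.mem _ (hz a)) (D.mem _ (hz b)),
      (Fr.mem_cen_iff_wt.1 (D.cen_mem _ (hzc a))).2, zero_right, add_zero]
  have hpair : ∀ u ∈ rad Fr.e, ∀ u' ∈ rad Fr.e,
      Fr.al u' - Fr.al u + B (Fr.wt u) (Fr.wt u') = 0 →
      Fr.al (D.B' u') - Fr.al (D.B' u) + B (D.φ (Fr.wt u)) (D.φ (Fr.wt u')) = 0 := by
    intro u hu u' hu' e
    have hcoord : ∀ v ∈ rad Fr.e, ∀ v' ∈ rad Fr.e,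
        B (act v Fr.f) (act v' Fr.f) = Fr.al v' - Fr.al v + B (Fr.wt v) (Fr.wt v') := by
      intro v hv v' hv'
      obtain ⟨a1, a2, a3⟩ := Fr.coord (Fr.wt_mem v) (a := Fr.al v) (b := 1) (x := act v Fr.f)
        (by rw [one_smul]; exact Fr.act_f hv)
      obtain ⟨b1, b2, b3⟩ := Fr.coord (Fr.wt_mem v') (a := Fr.al v') (b := 1) (x := act v' Fr.f)
        (by rw [one_smul]; exact Fr.act_f hv')
      rw [Fr.B_decomp, a1, a2, a3, b1, b2, b3]
      ring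
    have h1 := rel_orth p (act_ne_zero u Fr.f_ne_zero) (act_ne_zero u' Fr.f_ne_zero)
      (act_ne_zero (D.B' u) Fr.f_ne_zero) (act_ne_zero (D.B' u') Fr.f_ne_zero)
      (rel_compat hf (D.spec u hu)) (rel_compat hf (D.spec u' hu'))
    rw [hcoord u hu u' hu', hcoord _ (D.mem u hu) _ (D.mem u' hu'), ← D.φ_wt u hu,
      ← D.φ_wt u' hu'] at h1
    exact h1.1 e
  have hal : ∀ u ∈ rad Fr.e, Fr.al (D.B' u) = γ (Fr.al u) := fun u hu => by
    have := hpair u hu _ (hz (Fr.al u)) (by rw [hza, hzw, zero_right]; ring)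
    rw [hzw, hφ0, zero_right, ← hγ, add_zero, sub_eq_zero] at this
    exact this.symm
  have hB : ∀ x ∈ Fr.W, ∀ y ∈ Fr.W, B (D.φ x) (D.φ y) = γ (B x y) := by
    intro x hx y hy
    obtain ⟨u, hu, hux, hua⟩ := Fr.exists_rad hx (B x y)
    obtain ⟨u', hu', huy, hua'⟩ := Fr.exists_rad hy 0
    have := hpair u hu u' hu' (by rw [hua, hua', hux, huy]; ring)
    have hγ0 : γ 0 = 0 := by
      have := hγadd 0 0
      simpa using this
    rw [hal u hu, hal u' hu', hua, hua', hγ0, hux, huy] at this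
    linear_combination this
  obtain ⟨w₀, hw₀, hw₀'⟩ := Fr.exists_W_one hv₀ hv₀0
  obtain ⟨c, hc⟩ : ∃ c, c = γ 1 := ⟨_, rfl⟩
  have hγτ : ∀ a, γ a = c * τ a := fun a => by
    have := hB _ (Submodule.smul_mem _ a hv₀) _ hw₀
    rw [hφsmul a _ hv₀, smul_left, smul_left, hw₀', mul_one, hB _ hv₀ _ hw₀, hw₀', ← hc] at this
    rw [← this, mul_comm]
  have hc0 : c ≠ 0 := fun e => by
    obtain ⟨y, hy, hy'⟩ := Fr.exists_W_one (D.φ_mem _ hv₀) hb0
    obtain ⟨x, hx, rfl⟩ := D.φ_surj y hy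
    rw [hB _ hv₀ _ hx, hγτ, e, zero_mul] at hy'
    exact zero_ne_one hy'
  obtain ⟨Φ, hΦ⟩ : ∃ Φ : Vm → Vm, ∀ x, Φ x = (c * τ (-B x Fr.f)) • Fr.e + τ (B x Fr.e) • Fr.f +
      D.φ (Fr.P x) := ⟨_, fun _ => rfl⟩
  obtain ⟨g, hg⟩ := exists_sm_eq τ hc0 Φ
    (fun x y => by
      rw [hΦ, hΦ, hΦ, add_left, add_left, neg_add, map_add, map_add, Fr.P_add,
        D.φ_add _ (Fr.P_mem x) _ (Fr.P_mem y)]
      module)
    (fun a x => by
      rw [hΦ, hΦ, smul_left, smul_left, ← mul_neg, map_mul, map_mul, Fr.P_smul,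
        hφsmul a _ (Fr.P_mem x)]
      module)
    (fun x y => by
      obtain ⟨x1, x2, x3⟩ := Fr.coord (D.φ_mem _ (Fr.P_mem x)) (hΦ x)
      obtain ⟨y1, y2, y3⟩ := Fr.coord (D.φ_mem _ (Fr.P_mem y)) (hΦ y)
      rw [Fr.B_decomp (Φ x), x1, x2, x3, y1, y2, y3, hB _ (Fr.P_mem x) _ (Fr.P_mem y), hγτ,
        Fr.B_decomp x y, map_add, map_sub, map_mul, map_mul, map_neg, map_neg]
      ring)
  have hge : sm (g : GLm) τ Fr.e = c • Fr.e := by
    rw [hg, hΦ, Fr.hef, self_zero, Fr.P_e, hφ0]; simp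
  have hgf : sm (g : GLm) τ Fr.f = Fr.f := by
    rw [hg, hΦ, Fr.hfe, self_zero, Fr.P_f, hφ0]; simp
  refine ⟨g, τ, ?_, ?_, fun u hu => ?_⟩
  · have := rel_semi g τ Fr.e
    rwa [hge, Rel, cenQ_smul hc0] at this
  · have := rel_semi g τ Fr.f
    rwa [hgf] at this
  have h1 : spConj g τ u ∈ rad Fr.e := by
    have := spConj_mem_rad g τ hu
    rwa [hge, rad_smul hc0] at this
  have e2 : act (spConj g τ u) Fr.f =
      (c * τ (Fr.al u)) • Fr.e + (1 : F) • Fr.f + D.φ (Fr.wt u) := by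
    conv_lhs => rw [← hgf, act_spConj, hg, hΦ]
    obtain ⟨a1, a2, a3⟩ := Fr.coord (Fr.wt_mem u) (a := Fr.al u) (b := 1) (x := act u Fr.f)
      (by rw [one_smul]; exact Fr.act_f hu)
    rw [a1, a2, a3, neg_neg, map_one]
  obtain ⟨c1, -, c3⟩ := Fr.coord (D.φ_mem _ (Fr.wt_mem u)) e2
  rw [D.spec u hu]
  show semi g τ (QuotientGroup.mk u) = _
  rw [semi_mk]
  refine congrArg QuotientGroup.mk (Fr.rad_ext h1 (D.mem u hu) ?_ ?_)
  · rw [hal u hu, hγτ, Frame.al, c1, neg_neg]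
  · rw [← D.φ_wt u hu]; exact c3

/-- An automorphism fixing the two points and the radical is trivial. -/
theorem eq_one_of_trivial (hm : 2 ≤ m) {β : MulAut PSpm}
    (he : Rel β Fr.e Fr.e) (hf : Rel β Fr.f Fr.f) (hspec : ∀ u ∈ rad Fr.e, β (π u) = π u) :
    β = 1 := by
  have hpt : ∀ y : Vm, B y Fr.e = 1 → Rel β y y := by
    intro y hye
    obtain ⟨u, hu, rfl⟩ := Fr.exists_rad_of_point hye
    exact rel_compat hf (hspec u hu)
  have hall : ∀ c : Vm, c ≠ 0 → Rel β c c := by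
    intro c hc
    by_cases hce : B c Fr.e = 0
    swap
    · have h1 := hpt ((B c Fr.e)⁻¹ • c) (by rw [smul_left, inv_mul_cancel₀ hce])
      have := rel_smul h1 hce hce
      rwa [smul_inv_smul₀ hce] at this
    by_cases hw0 : Fr.P c = 0
    · have hcd : c = (-B c Fr.f) • Fr.e := by
        conv_lhs => rw [Fr.decomp c, hce, hw0, zero_smul, add_zero, add_zero]
      have h0 : -B c Fr.f ≠ 0 := fun e => hc (by rw [hcd, e, zero_smul])
      rw [hcd]
      exact rel_smul he h0 h0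
    obtain ⟨d, hd, hrel⟩ := exists_rel_of_rel Fr.e_ne_zero Fr.e_ne_zero he hc
    have hde : B d Fr.e = 0 :=
      (rel_orth p hc Fr.e_ne_zero hd Fr.e_ne_zero hrel he).1 hce
    have hzero : ∀ v ∈ Fr.W, B (Fr.P c) v = -B c Fr.f → B (Fr.P d) v = -B d Fr.f := by
      intro v hv e
      obtain ⟨u, hu, rfl⟩ := Fr.exists_wt hv
      have hy := act_ne_zero u Fr.f_ne_zero
      have hyr : Rel β (act u Fr.f) (act u Fr.f) := rel_compat hf (hspec u hu)
      obtain ⟨-, y2, y3⟩ := Fr.coord (Fr.wt_mem u) (a := Fr.al u) (b := 1) (x := act u Fr.f)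
        (by rw [one_smul]; exact Fr.act_f hu)
      have h0 : B c (act u Fr.f) = 0 := by
        rw [Fr.B_decomp, y2, y3, hce, e]; ring
      have h1 := (rel_orth p hc hy hd hy hrel hyr).1 h0
      rw [Fr.B_decomp, y2, y3, hde] at h1
      linear_combination h1
    obtain ⟨v₁, hv₁, hv₁'⟩ := Fr.exists_W_one (Fr.P_mem c) hw0
    obtain ⟨v₂, hv₂⟩ : ∃ v₂, v₂ = (-B c Fr.f) • v₁ := ⟨_, rfl⟩
    have hv₂m : v₂ ∈ Fr.W := hv₂ ▸ Submodule.smul_mem _ _ hv₁
    have hv₂' : B (Fr.P c) v₂ = -B c Fr.f := by rw [hv₂, smul_right, hv₁', mul_one]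
    obtain ⟨t, ht⟩ : ∃ t, t = B (Fr.P d) v₁ := ⟨_, rfl⟩
    have hprop : Fr.P d = t • Fr.P c := by
      refine Fr.W_eq_of_forall (Fr.P_mem d) (Submodule.smul_mem _ _ (Fr.P_mem c)) fun v hv => ?_
      obtain ⟨v', hv'⟩ : ∃ v', v' = v - B (Fr.P c) v • v₁ := ⟨_, rfl⟩
      have hv'm : v' ∈ Fr.W := hv' ▸ sub_mem hv (Submodule.smul_mem _ _ hv₁)
      have h0 : B (Fr.P c) v' = 0 := by
        rw [hv', sub_right, smul_right, hv₁', mul_one, sub_self]
      have e1 := hzero (v₂ + v') (add_mem hv₂m hv'm) (by rw [add_right, hv₂', h0, add_zero])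
      have e2 := hzero v₂ hv₂m hv₂'
      rw [add_right, e2, add_eq_left, hv', sub_right, smul_right, sub_eq_zero, ← ht] at e1
      rw [e1, smul_left]
      ring
    have hdc : d = t • c := by
      have e2 := hzero v₂ hv₂m hv₂'
      rw [hprop, smul_left, hv₂'] at e2
      conv_lhs => rw [Fr.decomp d, hde, hprop, show B d Fr.f = t * B c Fr.f by linear_combination e2]
      conv_rhs => rw [Fr.decomp c, hce]
      module
    have ht0 : t ≠ 0 := fun e => hd (by rw [hdc, e, zero_smul])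
    rw [hdc, Rel, cenQ_smul ht0] at hrel
    exact hrel
  refine MulEquiv.ext fun x => ?_
  induction x using QuotientGroup.induction_on with
  | _ s =>
    obtain ⟨t, ht⟩ := QuotientGroup.mk'_surjective _ (β (π s))
    have hline : ∀ c : Vm, c ≠ 0 → ∃ a : F, act (s⁻¹ * t) c = a • c := by
      intro c hc
      obtain ⟨a, -, ha⟩ := rel_unique p (act_ne_zero s hc) (act_ne_zero t hc)
        (hall _ (act_ne_zero s hc)) (rel_compat (hall c hc) ht.symm)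
      exact ⟨a, by rw [act_mul, ha, act_smul, act_inv_act]⟩
    show β (π s) = π s
    rw [← ht]
    refine (QuotientGroup.eq.2 ?_).symm
    rw [mem_center_iff]
    obtain ⟨α, hα⟩ := hline _ Fr.e_ne_zero
    refine ⟨α, fun x => ?_⟩
    rcases eq_or_ne x 0 with rfl | hx
    · rw [act_zero, smul_zero]
    obtain ⟨a, ha⟩ := hline x hx
    by_cases hdep : ∃ b : F, x = b • Fr.e
    · obtain ⟨b, rfl⟩ := hdep
      rw [act_smul, hα, smul_comm]
    push Not at hdep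
    have hxe : x + Fr.e ≠ 0 := fun e => hdep (-1) (by
      rw [neg_one_smul]; exact eq_neg_of_add_eq_zero_left e)
    obtain ⟨b, hb⟩ := hline _ hxe
    rw [act_add, ha, hα, smul_add] at hb
    have h1 : (a - b) • x = (b - α) • Fr.e := by
      rw [sub_smul, sub_smul, sub_eq_sub_iff_add_eq_add, hb]
      abel
    by_cases hab : a - b = 0
    · rw [hab, zero_smul, eq_comm, smul_eq_zero] at h1
      have hbα : b = α := sub_eq_zero.1 (h1.resolve_right Fr.e_ne_zero)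
      rw [ha, sub_eq_zero.1 hab, hbα]
    · exact absurd (by rw [mul_smul, ← h1, inv_smul_smul₀ hab] :
        x = ((a - b)⁻¹ * (b - α)) • Fr.e) (hdep _)

include Fr in
/-- The Galois part and, up to scalars, the linear part are determined. -/
theorem semi_eq_one_imp (hm : 2 ≤ m) {g : GSpm} {τ : F ≃+* F} (hg : (semi g τ : MulAut PSpm) = 1) :
    τ = 1 ∧ ∃ a : F, ∀ x : Vm, ((g : GLm) : Mm) *ᵥ x = a • x := by
  have hline : ∀ c : Vm, c ≠ 0 → ∃ a : F, a ≠ 0 ∧ sm (g : GLm) τ c = a • c := by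
    intro c hc
    have h1 := rel_semi g τ c
    rw [hg] at h1
    exact rel_unique p hc (fun e => hc (sm_inj (g : GLm) τ (e.trans (sm_zero _ τ).symm)))
      (rel_one c) h1
  obtain ⟨Fr⟩ : Nonempty (Frame F m) := ⟨Fr⟩
  obtain ⟨α, hα0, hα⟩ := hline _ Fr.e_ne_zero
  obtain ⟨γ, hγ0, hγ⟩ := hline _ Fr.f_ne_zero
  have hcomm : ∀ u ∈ rad Fr.e, ∀ x, act u (sm (g : GLm) τ x) = sm (g : GLm) τ (act u x) := by
    intro u hu x
    have h1 : spConj g τ u = u := by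
      have hmem := spConj_mem_rad g τ hu
      rw [hα, rad_smul hα0] at hmem
      refine Fr.rad_mk_inj p hmem hu ?_
      show (QuotientGroup.mk (spConj g τ u) : PSpm) = QuotientGroup.mk u
      rw [← semi_mk, hg]
      rfl
    conv_lhs => rw [← h1, act_spConj]
  obtain ⟨k, hk0, hk⟩ := sm_pres g.2 τ
  have hkey : ∀ u ∈ rad Fr.e,
      sm (g : GLm) τ (Fr.wt u) = γ • Fr.wt u ∧ τ (Fr.al u) * α = γ * Fr.al u := by
    intro u hu
    have e1 := hcomm u hu Fr.f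
    rw [hγ, act_smul, Fr.act_f hu, sm_add, sm_add, sm_smul, hα, hγ, smul_add, smul_add, smul_smul,
      smul_smul] at e1
    have hW : sm (g : GLm) τ (Fr.wt u) ∈ Fr.W := by
      constructor
      · have := hk (Fr.wt u) Fr.e
        rw [hα, smul_right, (Fr.wt_mem u).1, map_zero, mul_zero, mul_eq_zero] at this
        exact this.resolve_left hα0
      · have := hk (Fr.wt u) Fr.f
        rw [hγ, smul_right, (Fr.wt_mem u).2, map_zero, mul_zero, mul_eq_zero] at this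
        exact this.resolve_left hγ0
    have c1 := Fr.coord hW (a := τ (Fr.al u) * α) (b := γ) rfl
    have c2 := Fr.coord (Submodule.smul_mem _ γ (Fr.wt_mem u)) (a := γ * Fr.al u) (b := γ) e1.symm
    exact ⟨c1.2.2.symm.trans c2.2.2, neg_injective (c1.1.symm.trans c2.1)⟩
  have hW : ∀ v ∈ Fr.W, sm (g : GLm) τ v = γ • v := fun v hv => by
    obtain ⟨u, hu, rfl⟩ := Fr.exists_wt hv
    exact (hkey u hu).1
  obtain ⟨v₀, hv₀, hv₀0⟩ := Fr.exists_W_ne_zero hm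
  have hτ : τ = 1 := RingEquiv.ext fun a => by
    have e1 := hW (a • v₀) (Submodule.smul_mem _ _ hv₀)
    rw [sm_smul, hW _ hv₀, smul_smul, smul_smul] at e1
    exact mul_left_cancel₀ hγ0 (by rw [mul_comm γ (τ a)]; exact smul_left_injective F hv₀0 e1)
  subst hτ
  refine ⟨rfl, γ, fun x => ?_⟩
  have hαγ : α = γ := by
    obtain ⟨z, hz, -, hza⟩ := Fr.exists_rad (zero_mem Fr.W) (1 : F)
    have := (hkey z hz).2
    rw [hza, map_one, one_mul, mul_one] at this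
    exact this
  have hgx : ((g : GLm) : Mm) *ᵥ x = sm (g : GLm) 1 x := rfl
  rw [hgx]
  conv_lhs => rw [Fr.decomp x, sm_add, sm_add, sm_smul, sm_smul, hα, hγ, hW _ (Fr.P_mem x), hαγ,
    RingAut.one_apply, RingAut.one_apply]
  conv_rhs => rw [Fr.decomp x]
  module

include Fr in
/-- Every automorphism is induced by a semilinear similitude. -/
theorem exists_semi_of_rel (hm : 2 ≤ m) (β : MulAut PSpm) {c₀ d₀ : Vm} (hc₀ : c₀ ≠ 0)
    (hd₀ : d₀ ≠ 0) (hrel : Rel β c₀ d₀) :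
    ∃ (g : GSpm) (τ : F ≃+* F), β = semi g τ := by
  obtain ⟨d₁, hd₁, hr₁⟩ := exists_rel_of_rel hc₀ hd₀ hrel Fr.e_ne_zero
  obtain ⟨d₂, hd₂, hr₂⟩ := exists_rel_of_rel hc₀ hd₀ hrel Fr.f_ne_zero
  have h21 : B d₂ d₁ ≠ 0 := fun e => by
    have := (rel_orth p Fr.f_ne_zero Fr.e_ne_zero hd₂ hd₁ hr₂ hr₁).2 e
    rw [Fr.hfe] at this
    exact one_ne_zero this
  obtain ⟨d₃, hd₃⟩ : ∃ d₃, d₃ = (B d₂ d₁)⁻¹ • d₂ := ⟨_, rfl⟩
  have hr₃ : Rel β Fr.f d₃ := by
    rw [hd₃, Rel, cenQ_smul (inv_ne_zero h21)]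
    exact hr₂
  have h31 : B d₃ d₁ = 1 := by rw [hd₃, smul_left, inv_mul_cancel₀ h21]
  obtain ⟨A, hA1, hA2⟩ := ClassicalSp.exists_pair_map h31 Fr.hfe
  obtain ⟨g₀, hg₀⟩ := exists_sm_eq (1 : F ≃+* F) one_ne_zero (fun x => act A x) (act_add A)
    (fun a x => act_smul A a x) (fun x y => by rw [act_pres, one_mul, RingAut.one_apply])
  have he : Rel (semi g₀ 1 * β) Fr.e Fr.e := by
    refine rel_comp hr₁ ?_
    have := rel_semi g₀ 1 d₁
    rwa [hg₀, show act A d₁ = Fr.e from hA2] at this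
  have hf : Rel (semi g₀ 1 * β) Fr.f Fr.f := by
    refine rel_comp hr₃ ?_
    have := rel_semi g₀ 1 d₃
    rwa [hg₀, show act A d₃ = Fr.f from hA1] at this
  obtain ⟨g, τ, hge, hgf, hgu⟩ := exists_semi_rad p Fr hm he hf
  obtain ⟨g₁, hg₁⟩ := semi_inverse g₀ (1 : F ≃+* F)
  have h1 : (semi g τ : MulAut PSpm)⁻¹ * (semi g₀ 1 * β) = 1 :=
    eq_one_of_trivial p Fr hm (rel_comp he (rel_symm hge)) (rel_comp hf (rel_symm hgf))
      fun u hu => by
        show (semi g τ : MulAut PSpm)⁻¹ ((semi g₀ 1 * β) (π u)) = π u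
        rw [← hgu u hu]
        exact (semi g τ : MulAut PSpm).symm_apply_apply _
  refine ⟨g₁ * mapGSp 1⁻¹ g, 1⁻¹ * τ, ?_⟩
  rw [← semi_mul, inv_mul_eq_one.1 h1, ← mul_assoc, hg₁, one_mul]

include Fr in
theorem exists_semi (hm : 2 ≤ m) (hm2 : (2 : F) ≠ 0 ∨ 3 ≤ m) (β : MulAut PSpm) :
    ∃ (g : GSpm) (τ : F ≃+* F), β = semi g τ := by
  obtain ⟨d, hd, hr⟩ := exists_rel p (by omega) hm2 β Fr.e_ne_zero
  exact exists_semi_of_rel p Fr hm β Fr.e_ne_zero hd hr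

end Cfsg.Agent.AutPSp
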