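import Cfsg.Agent.Lib.AutPSp.Final
import Cfsg.Agent.Lib.AutPSL.Outer

/-!
The subgroup of semilinear automorphisms of `PSp_{2m}` and its order.
-/

set_option autoImplicit false

namespace Cfsg.Agent.AutPSp

open Matrix

variable {F : Type*} [Field F] {m : ℕ}

local notation "Vm" => Fin m ⊕ Fin m → F
local notation "Mm" => Matrix (Fin m ⊕ Fin m) (Fin m ⊕ Fin m) F
local notation "Spm" => Matrix.symplecticGroup (Fin m) F
local notation "GSpm" => Cfsg.GSp m F
local notation "GLm" => GL (Fin m ⊕ Fin m) F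
local notation "PSpm" => Cfsg.PSp m F

theorem mapGSp_coe (τ : F ≃+* F) (g : GSpm) :
    ((mapGSp τ g : GSpm) : GLm) = Matrix.GeneralLinearGroup.map τ.toRingHom (g : GLm) := rfl

theorem mapGSp_mul (τ : F ≃+* F) (g g' : GSpm) : mapGSp τ (g * g') = mapGSp τ g * mapGSp τ g' :=
  Subtype.ext (map_mul (Matrix.GeneralLinearGroup.map τ.toRingHom) _ _)

theorem mapGSp_one (g : GSpm) : mapGSp 1 g = g :=
  Subtype.ext (Units.ext (Matrix.map_id _))

theorem mapGSp_one' (τ : F ≃+* F) : mapGSp τ (1 : GSpm) = 1 :=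
  Subtype.ext (map_one (Matrix.GeneralLinearGroup.map τ.toRingHom))

theorem mapGSp_comp (τ τ' : F ≃+* F) (g : GSpm) : mapGSp (τ * τ') g = mapGSp τ (mapGSp τ' g) :=
  Subtype.ext (Units.ext (Matrix.ext fun _ _ => rfl))

theorem semi_mul_one (g g' : GSpm) (τ : F ≃+* F) :
    (semi g 1 * semi g' τ : MulAut PSpm) = semi (g * g') τ := by
  rw [semi_mul, mapGSp_one, one_mul]

/-- The action of `GSp` on `PSp`. -/
noncomputable def conjHom : GSpm →* MulAut PSpm :=
  MonoidHom.mk' (fun g => semi g 1) fun g g' => (semi_mul_one g g' 1).symm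

theorem conjHom_apply (g : GSpm) : (conjHom g : MulAut PSpm) = semi g 1 := rfl

theorem semi_decomp (g : GSpm) (τ : F ≃+* F) : (semi g τ : MulAut PSpm) = semi g 1 * semi 1 τ := by
  rw [semi_mul_one, mul_one]

theorem semi_inv_one (g : GSpm) : (semi g 1 : MulAut PSpm)⁻¹ = semi g⁻¹ 1 := by
  rw [← conjHom_apply, ← conjHom_apply, map_inv]

/-- The semilinear automorphisms. -/
def semiSub : Subgroup (MulAut PSpm) where
  carrier := {β | ∃ (g : GSpm) (τ : F ≃+* F), β = semi g τ}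
  one_mem' := ⟨1, 1, semi_one.symm⟩
  mul_mem' := by
    rintro _ _ ⟨g, τ, rfl⟩ ⟨g', τ', rfl⟩
    exact ⟨_, _, semi_mul g g' τ τ'⟩
  inv_mem' := by
    rintro _ ⟨g, τ, rfl⟩
    obtain ⟨g', hg'⟩ := semi_inverse g τ
    exact ⟨g', τ⁻¹, (eq_inv_of_mul_eq_one_left hg').symm⟩

/-- The multiplier. -/
noncomputable def mu : GSpm →* Fˣ :=
  if hm : 1 ≤ m then
    MonoidHom.mk' (fun g => Classical.choose g.2) fun g g' => Units.ext (by
      obtain ⟨x, hx⟩ : ∃ x : Vm, x ≠ 0 := ⟨Pi.single (Sum.inl ⟨0, hm⟩) 1, by simp⟩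
      obtain ⟨w, hw⟩ := exists_one hx
      have h1 : B _ _ = _ := Classical.choose_spec (g * g').2 w x
      have h2 : B _ _ = _ := Classical.choose_spec g.2 (((g' : GLm) : Mm) *ᵥ w) (((g' : GLm) : Mm) *ᵥ x)
      have h3 : B _ _ = _ := Classical.choose_spec g'.2 w x
      rw [Matrix.mulVec_mulVec, Matrix.mulVec_mulVec] at h2
      change B ((((g : GLm) : Mm) * ((g' : GLm) : Mm)) *ᵥ w)
        ((((g : GLm) : Mm) * ((g' : GLm) : Mm)) *ᵥ x) = _ at h1
      rw [h2, show Cfsg.sympForm m F (((g' : GLm) : Mm) *ᵥ w) (((g' : GLm) : Mm) *ᵥ x) = _ from h3,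
        show Cfsg.sympForm m F w x = 1 from hw, mul_one, mul_one] at h1
      rw [Units.val_mul]
      exact h1.symm)
  else 1

theorem mu_spec (hm : 1 ≤ m) (g : GSpm) (u v : Vm) :
    B (((g : GLm) : Mm) *ᵥ u) (((g : GLm) : Mm) *ᵥ v) = (mu g : F) * B u v := by
  rw [mu, dif_pos hm]
  exact Classical.choose_spec g.2 u v

theorem mu_unique (hm : 1 ≤ m) {g : GSpm} {c : F}
    (hc : ∀ u v, B (((g : GLm) : Mm) *ᵥ u) (((g : GLm) : Mm) *ᵥ v) = c * B u v) : (mu g : F) = c := by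
  obtain ⟨x, hx⟩ : ∃ x : Vm, x ≠ 0 := ⟨Pi.single (Sum.inl ⟨0, hm⟩) 1, by simp⟩
  obtain ⟨w, hw⟩ := exists_one hx
  have h1 := (mu_spec hm g w x).symm.trans (hc w x)
  rwa [hw, mul_one, mul_one] at h1

theorem mu_surjective (hm : 1 ≤ m) : Function.Surjective (mu : GSpm →* Fˣ) := by
  intro c
  let D : Mm := Matrix.diagonal (Sum.elim (fun _ => (c : F)) fun _ => 1)
  have hD : ∀ u v, B (D *ᵥ u) (D *ᵥ v) = (c : F) * B u v := fun u v => by
    simp only [B, Cfsg.sympForm, D, Matrix.J, dotProduct, Matrix.mulVec, Fintype.sum_sum_type,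
      Matrix.diagonal, Matrix.of_apply]
    simp [Finset.mul_sum, Matrix.one_apply, mul_add, mul_assoc, mul_left_comm]
  have hu : IsUnit D := Matrix.isUnit_diagonal.2 (Pi.isUnit_iff.2 fun i => by
    rcases i with i | i
    · exact c.isUnit
    · exact isUnit_one)
  refine ⟨⟨hu.unit, c, hD⟩, Units.ext (mu_unique hm hD)⟩

/-- Scalars. -/
def scG : Fˣ →* GSpm :=
  (Matrix.GeneralLinearGroup.scalar (Fin m ⊕ Fin m)).codRestrict _ fun a => by
    refine ⟨a * a, fun u v => ?_⟩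
    have e : ∀ x : Vm, ((Matrix.GeneralLinearGroup.scalar (Fin m ⊕ Fin m) a : GLm) : Mm) *ᵥ x =
        (a : F) • x := fun x => by
      show Matrix.scalar (Fin m ⊕ Fin m) (a : F) *ᵥ x = _
      rw [Matrix.scalar_apply, ← Matrix.smul_one_eq_diagonal, Matrix.smul_mulVec, Matrix.one_mulVec]
    show B _ _ = _
    rw [e, e, smul_left, smul_right, Units.val_mul, mul_assoc]

theorem scG_mulVec (a : Fˣ) (x : Vm) : (((scG a : GSpm) : GLm) : Mm) *ᵥ x = (a : F) • x := by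
  show Matrix.scalar (Fin m ⊕ Fin m) (a : F) *ᵥ x = _
  rw [Matrix.scalar_apply, ← Matrix.smul_one_eq_diagonal, Matrix.smul_mulVec, Matrix.one_mulVec]

theorem scG_coe (a : Fˣ) :
    ((scG a : GSpm) : GLm) = Matrix.GeneralLinearGroup.scalar (Fin m ⊕ Fin m) a := rfl

theorem scG_comm (a : Fˣ) (g : GSpm) : scG a * g = g * scG a :=
  Subtype.ext (Units.ext ((Matrix.scalar_commute (a : F) (fun r => mul_comm _ r) _).eq))

theorem mapGSp_scG (τ : F ≃+* F) (a : Fˣ) :
    mapGSp τ (scG a : GSpm) = scG (Units.map τ.toMonoidHom a) := by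
  refine Subtype.ext (Units.ext ?_)
  show (Matrix.scalar (Fin m ⊕ Fin m) (a : F)).map τ = Matrix.scalar (Fin m ⊕ Fin m) (τ (a : F))
  simp only [Matrix.scalar_apply]
  exact Matrix.diagonal_map (map_zero τ)

theorem mu_scG (hm : 1 ≤ m) (a : Fˣ) : mu (scG a : GSpm) = a ^ 2 := Units.ext <| by
  rw [mu_unique hm (c := (a : F) * a) fun u v => by
    rw [scG_mulVec, scG_mulVec, smul_left, smul_right, mul_assoc]]
  rw [Units.val_pow_eq_pow_val, sq]

/-- The symplectic group inside the similitudes. -/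
def spG : Spm →* GSpm :=
  ((Units.map (Submonoid.subtype Spm)).comp (toUnits (G := Spm)).toMonoidHom).codRestrict _ fun s =>
    ⟨1, fun u v => by
      show B _ _ = _
      rw [Units.val_one, one_mul]
      exact act_pres s u v⟩

theorem spG_mulVec (s : Spm) (x : Vm) : (((spG s : GSpm) : GLm) : Mm) *ᵥ x = act s x := rfl

theorem inner_eq_semi (s : Spm) :
    (MulAut.conj (QuotientGroup.mk s : PSpm) : MulAut PSpm) = semi (spG s) 1 := MulEquiv.ext fun x => by
  induction x using QuotientGroup.induction_on with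
  | _ t =>
    rw [MulAut.conj_apply, ← QuotientGroup.mk_inv, ← QuotientGroup.mk_mul, ← QuotientGroup.mk_mul,
      semi_mk]
    refine congrArg QuotientGroup.mk (ext_act fun x => ?_)
    obtain ⟨y, rfl⟩ := sm_surj ((spG s : GSpm) : GLm) 1 x
    rw [act_spConj, sm, sm, spG_mulVec, spG_mulVec, act_mul, act_mul,
      show ((1 : F ≃+* F) : F → F) = id from rfl, Function.id_comp, Function.id_comp, act_inv_act]

theorem mu_spG (hm : 1 ≤ m) (s : Spm) : mu (spG s : GSpm) = 1 := Units.ext <| by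
  rw [Units.val_one]
  exact mu_unique hm fun u v => by rw [spG_mulVec, spG_mulVec, act_pres, one_mul]

theorem inn_le_range : Cfsg.Inn PSpm ≤ (conjHom : GSpm →* MulAut PSpm).range := by
  rintro _ ⟨x, rfl⟩
  obtain ⟨s, rfl⟩ := QuotientGroup.mk_surjective x
  exact ⟨_, (inner_eq_semi s).symm⟩

theorem range_conjHom : (conjHom : GSpm →* MulAut PSpm).range = Cfsg.inndiagPSp m F := by
  refine le_antisymm ?_ (by
    rw [Cfsg.inndiagPSp, Cfsg.autSubgroupOf, Subgroup.closure_le]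
    rintro β ⟨g, hg, hβ⟩
    exact ⟨⟨g, hg⟩, (semi_eq_of_induced ⟨g, hg⟩ 1 hβ).symm⟩)
  rintro _ ⟨g, rfl⟩
  exact Subgroup.subset_closure ⟨g, g.2, induced_semi g 1⟩

theorem mem_inndiag {δ : MulAut PSpm} :
    δ ∈ Cfsg.inndiagPSp m F ↔ ∃ g : GSpm, δ = semi g 1 := by
  rw [← range_conjHom]
  exact ⟨fun ⟨g, hg⟩ => ⟨g, hg.symm⟩, fun ⟨g, hg⟩ => ⟨g, hg.symm⟩⟩

section semi_eq

variable [Finite F] (hm : 2 ≤ m)
include hm

theorem semi_eq_one_iff' {g : GSpm} {τ : F ≃+* F} :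
    (semi g τ : MulAut PSpm) = 1 ↔ τ = 1 ∧ ∃ a : Fˣ, g = scG a := by
  rw [semi_eq_one_iff hm]
  constructor
  · rintro ⟨rfl, a, ha⟩
    refine ⟨rfl, ?_⟩
    have ha0 : a ≠ 0 := fun e => by
      have h1 := ha (Pi.single (Sum.inl ⟨0, by omega⟩) 1)
      rw [e, zero_smul] at h1
      have := Matrix.mulVec_injective_iff_isUnit.2 (g : GLm).isUnit (h1.trans (Matrix.mulVec_zero _).symm)
      simp at this
    refine ⟨Units.mk0 a ha0, Subtype.ext (Units.ext (Matrix.ext_of_mulVec_single fun j => ?_))⟩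
    rw [ha, scG_mulVec]
    rfl
  · rintro ⟨rfl, a, rfl⟩
    exact ⟨rfl, _, scG_mulVec a⟩

theorem semi_eq_semi {g g' : GSpm} {τ τ' : F ≃+* F} :
    (semi g τ : MulAut PSpm) = semi g' τ' ↔ τ = τ' ∧ ∃ a : Fˣ, g = scG a * g' := by
  constructor
  · intro e
    obtain ⟨g'', hg''⟩ := semi_inverse g' τ'
    have h1 : (semi (g'' * mapGSp τ'⁻¹ g) (τ'⁻¹ * τ) : MulAut PSpm) = 1 := by
      rw [← semi_mul, e, hg'']
    obtain ⟨hτ, -⟩ := (semi_eq_one_iff' hm).1 h1
    obtain rfl : τ' = τ := inv_mul_eq_one.1 hτ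
    rw [semi_decomp g, semi_decomp g', mul_left_inj, ← conjHom_apply, ← conjHom_apply,
      ← mul_inv_eq_one, ← map_inv, ← map_mul, conjHom_apply] at e
    obtain ⟨-, a, ha⟩ := (semi_eq_one_iff' hm).1 e
    exact ⟨rfl, a, mul_inv_eq_iff_eq_mul.1 ha⟩
  · rintro ⟨rfl, a, rfl⟩
    rw [← semi_mul_one, (semi_eq_one_iff' hm).2 ⟨rfl, a, rfl⟩, one_mul]

theorem semi_mem_inn (g : GSpm) :
    (semi g 1 : MulAut PSpm) ∈ Cfsg.Inn PSpm ↔ mu g ∈ (powMonoidHom 2 : Fˣ →* Fˣ).range := by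
  have hm1 : 1 ≤ m := by omega
  constructor
  · rintro ⟨x, hx⟩
    obtain ⟨s, rfl⟩ := QuotientGroup.mk_surjective x
    rw [inner_eq_semi] at hx
    obtain ⟨-, a, ha⟩ := (semi_eq_semi hm).1 hx.symm
    exact ⟨a, by rw [ha, map_mul, mu_scG hm1, mu_spG hm1, mul_one, powMonoidHom_apply]⟩
  · rintro ⟨a, ha⟩
    rw [powMonoidHom_apply] at ha
    have h1 : mu (scG a⁻¹ * g) = 1 := by
      rw [map_mul, mu_scG hm1, ← ha, inv_pow, inv_mul_cancel]
    obtain ⟨s, hs⟩ := exists_Sp (((scG a⁻¹ * g : GSpm) : GLm) : Mm) fun x y => by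
      rw [mu_spec hm1, h1, Units.val_one, one_mul]
    refine ⟨QuotientGroup.mk s, ?_⟩
    rw [inner_eq_semi, semi_eq_semi hm]
    refine ⟨rfl, a⁻¹, Subtype.ext (Units.ext (Matrix.ext_of_mulVec_single fun j => ?_))⟩
    rw [spG_mulVec]
    exact hs _

theorem card_inn : Nat.card (Cfsg.Inn PSpm) = Nat.card PSpm := by
  refine (Nat.card_congr (MonoidHom.ofInjective ((injective_iff_map_eq_one _).2 fun x hx => ?_)).toEquiv).symm
  obtain ⟨s, rfl⟩ := QuotientGroup.mk_surjective x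
  rw [inner_eq_semi, semi_eq_one_iff hm] at hx
  obtain ⟨-, a, ha⟩ := hx
  exact (QuotientGroup.eq_one_iff s).2 ((mem_center_iff s).2 ⟨a, ha⟩)

theorem card_inndiag [Fintype F] :
    Nat.card (Cfsg.inndiagPSp m F) = Nat.gcd 2 (Fintype.card F - 1) * Nat.card PSpm := by
  rw [← range_conjHom]
  let D : GSpm →* Fˣ ⧸ (powMonoidHom 2 : Fˣ →* Fˣ).range := (QuotientGroup.mk' _).comp mu
  have hD : Function.Surjective D :=
    (QuotientGroup.mk'_surjective _).comp (mu_surjective (by omega))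
  have hker : D.ker = (Cfsg.Inn PSpm).comap conjHom := by
    ext g
    rw [MonoidHom.mem_ker, MonoidHom.comp_apply, QuotientGroup.mk'_apply, QuotientGroup.eq_one_iff,
      Subgroup.mem_comap, conjHom_apply, semi_mem_inn hm]
  have hidx := Subgroup.index_comap (Cfsg.Inn PSpm) (conjHom : GSpm →* MulAut PSpm)
  rw [← hker, Subgroup.index_ker, MonoidHom.range_eq_top.2 hD, Subgroup.card_top,
    AutPSL.card_quotient_powMonoidHom rfl] at hidx
  rw [hidx, ← card_inn hm, mul_comm, ← Nat.card_congr (Subgroup.subgroupOfEquivOfLe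
    (inn_le_range (F := F) (m := m))).toEquiv]
  exact (Subgroup.card_mul_index _).symm

theorem card_semiSub [Fintype F] (p f : ℕ) [Fact p.Prime] (hF : Fintype.card F = p ^ f) :
    Nat.card (semiSub : Subgroup (MulAut PSpm)) =
      Nat.gcd 2 (p ^ f - 1) * f * Nat.card PSpm := by
  have hex : ∀ β : (semiSub : Subgroup (MulAut PSpm)), ∃ (g : GSpm) (τ : F ≃+* F),
      (β : MulAut PSpm) = semi g τ := fun β => β.2
  choose g fld hfld using hex
  have huniq : ∀ (β : (semiSub : Subgroup (MulAut PSpm))) g' τ, (β : MulAut PSpm) = semi g' τ → fld β = τ := fun β g' τ e =>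
    ((semi_eq_semi hm).1 ((hfld β).symm.trans e)).1
  let Φ : (semiSub : Subgroup (MulAut PSpm)) →* (F ≃+* F) := MonoidHom.mk' fld fun (β γ : (semiSub : Subgroup (MulAut PSpm))) => by
    refine huniq _ (g β * mapGSp (fld β) (g γ)) _ ?_
    rw [Subgroup.coe_mul, hfld β, hfld γ, semi_mul]
  have hker : Φ.ker = (Cfsg.inndiagPSp m F).subgroupOf semiSub := by
    ext β
    rw [MonoidHom.mem_ker, Subgroup.mem_subgroupOf, mem_inndiag]
    show fld β = 1 ↔ _
    constructor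
    · intro e
      exact ⟨g β, by rw [hfld β]; congr 1⟩
    · rintro ⟨g', e⟩
      exact huniq β g' 1 e
  have hsurj : Function.Surjective Φ := fun τ => ⟨⟨semi 1 τ, 1, τ, rfl⟩, huniq _ 1 τ rfl⟩
  have hle : Cfsg.inndiagPSp m F ≤ semiSub := fun δ hδ => by
    obtain ⟨g', rfl⟩ := mem_inndiag.1 hδ
    exact ⟨g', 1, rfl⟩
  obtain ⟨E⟩ := AutPSL.exists_ringAut_equiv (F := F) p f hF
  rw [← Subgroup.card_mul_index Φ.ker, Subgroup.index_ker, MonoidHom.range_eq_top.2 hsurj,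
    Subgroup.card_top, hker, Nat.card_congr (Subgroup.subgroupOfEquivOfLe hle).toEquiv,
    card_inndiag hm, hF, Nat.card_congr E.toEquiv, Nat.card_congr Multiplicative.toAdd, Nat.card_zmod]
  ring

end semi_eq

end Cfsg.Agent.AutPSp
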