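import Cfsg.Agent.Lib.AutPSp.Count

/-!
Automorphisms of `PSp_{2m}` (`m ≥ 3` or odd characteristic) act on the points.
-/

set_option autoImplicit false

namespace Cfsg.Agent.AutPSp

open Matrix MulAction

variable {F : Type*} [Field F] {m : ℕ}

local notation "Vm" => Fin m ⊕ Fin m → F
local notation "Spm" => Matrix.symplecticGroup (Fin m) F
local notation "PSpm" => Cfsg.PSp m F
local notation "π" => QuotientGroup.mk' (Subgroup.center Spm)

/-- The transvection group in the quotient. -/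
def cenQ (c : Vm) : Subgroup PSpm := (cen c).map π

/-- The radical in the quotient. -/
def radQ (c : Vm) : Subgroup PSpm := (rad c).map π

/-- The relation on vectors induced by an automorphism. -/
def Rel (β : MulAut PSpm) (c d : Vm) : Prop := (cenQ c).map β.toMonoidHom = cenQ d

theorem exists_fixed (p : ℕ) [Fact p.Prime] [CharP F p] {G : Type*} [Group G] (hG : IsPGroup p G)
    {M : Type*} [AddCommGroup M] [Module F M] [Finite M] [Nontrivial M] (a : G → M → M)
    (h1 : ∀ x, a 1 x = x) (hmul : ∀ g g' x, a (g * g') x = a g (a g' x)) (h0 : ∀ g, a g 0 = 0) :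
    ∃ x : M, x ≠ 0 ∧ ∀ g, a g x = x := by
  letI : MulAction G M :=
    { smul := a
      one_smul := h1
      mul_smul := hmul }
  obtain ⟨x, hx⟩ := exists_ne (0 : M)
  have hdvd : p ∣ Nat.card M := by
    have e : addOrderOf x = p := addOrderOf_eq_prime
      (by rw [← Nat.cast_smul_eq_nsmul F, CharP.cast_eq_zero, zero_smul]) hx
    exact e ▸ addOrderOf_dvd_natCard x
  obtain ⟨y, hy, hne⟩ := hG.exists_fixed_point_of_prime_dvd_card_of_fixed_point M hdvd
    (a := (0 : M)) (fun g => h0 g)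
  exact ⟨y, hne.symm, fun g => hy g⟩

theorem cenQ_smul {a : F} (ha : a ≠ 0) (c : Vm) : cenQ (a • c) = cenQ c := by
  rw [cenQ, cenQ, cen_smul ha]

theorem radQ_smul {a : F} (ha : a ≠ 0) (c : Vm) : radQ (a • c) = radQ c := by
  rw [radQ, radQ, rad_smul ha]

theorem mem_conj_cen {c : Vm} (t s : Spm) : s ∈ cen (act t c) ↔ t⁻¹ * s * t ∈ cen c := by
  constructor
  · intro hs
    have := cen_conj t⁻¹ hs
    rwa [act_inv_act, inv_inv] at this
  · intro hs
    have := cen_conj t hs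
    simpa [mul_assoc] using this

theorem cenQ_act (t : Spm) (c : Vm) :
    cenQ (act t c) = (cenQ c).map (MulAut.conj (π t)).toMonoidHom := by
  ext x
  simp only [cenQ, Subgroup.mem_map]
  constructor
  · rintro ⟨s, hs, rfl⟩
    exact ⟨π (t⁻¹ * s * t), ⟨_, (mem_conj_cen t s).1 hs, rfl⟩,
      show π t * π (t⁻¹ * s * t) * (π t)⁻¹ = π s by
        rw [map_mul, map_mul, map_inv]; group⟩
  · rintro ⟨-, ⟨s, hs, rfl⟩, rfl⟩
    exact ⟨t * s * t⁻¹, cen_conj t hs, show π (t * s * t⁻¹) = π t * π s * (π t)⁻¹ by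
      rw [map_mul, map_mul, map_inv]⟩

theorem rel_comp {β γ : MulAut PSpm} {c d e : Vm} (h1 : Rel β c d) (h2 : Rel γ d e) :
    Rel (γ * β) c e := by
  rw [Rel, show (γ * β).toMonoidHom = γ.toMonoidHom.comp β.toMonoidHom from rfl, ← Subgroup.map_map]
  rw [Rel] at h1 h2
  rw [h1, h2]

theorem rel_one (c : Vm) : Rel (1 : MulAut PSpm) c c := Subgroup.map_id _

theorem rel_symm {β : MulAut PSpm} {c d : Vm} (h1 : Rel β c d) : Rel β⁻¹ d c := by
  rw [Rel] at h1 ⊢
  rw [← h1, Subgroup.map_map]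
  convert Subgroup.map_id _
  ext x
  exact β.symm_apply_apply x

theorem rel_compat {β : MulAut PSpm} {c d : Vm} (h1 : Rel β c d) {s t : Spm} (e : β (π s) = π t) :
    Rel β (act s c) (act t d) := by
  rw [Rel] at h1 ⊢
  rw [cenQ_act, cenQ_act, ← h1, Subgroup.map_map, Subgroup.map_map]
  congr 1
  ext x
  show β (π s * x * (π s)⁻¹) = π t * β x * (π t)⁻¹
  rw [map_mul, map_mul, map_inv, e]

theorem rel_smul {β : MulAut PSpm} {c d : Vm} (h1 : Rel β c d) {a b : F} (ha : a ≠ 0) (hb : b ≠ 0) :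
    Rel β (a • c) (b • d) := by
  rw [Rel] at h1 ⊢
  rw [cenQ_smul ha, cenQ_smul hb, h1]

theorem conj_pow_eq_one {G : Type*} [Group G] {s : G} {k : ℕ} (hs : s ^ k = 1) (t : G) :
    (t * s * t⁻¹) ^ k = 1 := by rw [conj_pow, hs, mul_one, mul_inv_cancel]

variable [Finite F] (p : ℕ) [Fact p.Prime] [CharP F p]
include p

omit [Finite F] [Fact p.Prime] in
theorem rad_pow' {c : Vm} (hc : c ≠ 0) {s : Spm} (hs : s ∈ rad c) : s ^ p ^ 2 = 1 := by
  obtain ⟨Fr, rfl⟩ := Frame.exists_of_ne hc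
  exact Fr.rad_pow p hs

omit [Finite F] [Fact p.Prime] in
theorem cen_pow' {c : Vm} (hc : c ≠ 0) {s : Spm} (hs : s ∈ cen c) : s ^ p ^ 2 = 1 :=
  rad_pow' p hc (cen_le_rad c hs)

/-- Commutation of `p`-elements is detected in the quotient. -/
theorem commute_of_mk {u t : Spm} {k : ℕ} (hu : u ^ p ^ k = 1) (e : Commute (π t) (π u)) :
    Commute t u := by
  have h1 : (QuotientGroup.mk (t * u * t⁻¹) : PSpm) = QuotientGroup.mk u := by
    show π (t * u * t⁻¹) = π u
    rw [map_mul, map_mul, map_inv, e.eq, mul_inv_cancel_right]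
  exact mul_inv_eq_iff_eq_mul.1 (eq_of_mk_eq p (conj_pow_eq_one hu t) hu h1)

omit [Finite F] in
theorem card_cenQ {c : Vm} (hc : c ≠ 0) : Nat.card (cenQ c) = Nat.card F := by
  choose t ht using fun l : F => exists_tv c l
  have htc : ∀ l, t l ∈ cen c := fun l => ⟨l, ht l⟩
  refine (Nat.card_eq_of_bijective
    (fun l : F => (⟨π (t l), Subgroup.mem_map_of_mem _ (htc l)⟩ : cenQ c)) ⟨?_, ?_⟩).symm
  · intro a b e
    have e1 := eq_of_mk_eq p (cen_pow' p hc (htc a)) (cen_pow' p hc (htc b)) (congrArg Subtype.val e)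
    obtain ⟨x, hx⟩ := exists_one hc
    have e2 := congrArg (fun g : Spm => act g x) e1
    simp only [ht, hx, mul_one, add_right_inj] at e2
    exact smul_left_injective F hc e2
  · rintro ⟨_, s, ⟨l, hl⟩, rfl⟩
    exact ⟨l, Subtype.ext (congrArg π (ext_act fun x => by rw [ht, hl]))⟩

theorem eq_smul_of_cenQ {c d : Vm} (hc : c ≠ 0) (hd : d ≠ 0) (e : cenQ c = cenQ d) :
    ∃ a : F, a ≠ 0 ∧ d = a • c := by
  obtain ⟨s, hsx⟩ := exists_tv d 1
  obtain ⟨s', hs', e'⟩ : π s ∈ cenQ c := e ▸ Subgroup.mem_map_of_mem _ ⟨1, hsx⟩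
  obtain rfl := eq_of_mk_eq p (cen_pow' p hc hs') (cen_pow' p hd ⟨1, hsx⟩) e'
  obtain ⟨k, hk⟩ := hs'
  obtain ⟨x, hx⟩ := exists_one hd
  have e1 : d = (k * B x c) • c := by
    have := (hsx x).symm.trans (hk x)
    rwa [hx, mul_one, one_smul, add_left_cancel_iff] at this
  exact ⟨_, fun e0 => hd (by rw [e1, e0, zero_smul]), e1⟩

/-- The centres of Sylow subgroups in the defining characteristic. -/
theorem center_sylow (hm : 1 ≤ m) (S : Sylow p PSpm) : ∃ c : Vm, c ≠ 0 ∧
    radQ c ≤ S ∧ cenQ c ≤ Subgroup.centralizer ((S : Subgroup PSpm) : Set PSpm) ∧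
    (∀ (u : Spm) (T : ℕ), u ^ p ^ T = 1 → π u ∈ (S : Subgroup PSpm) → act u c = c) ∧
    ∀ z ∈ (S : Subgroup PSpm), z ∈ Subgroup.centralizer ((S : Subgroup PSpm) : Set PSpm) →
      ∃ u ∈ rad c, π u = z ∧ ((2 : F) ≠ 0 → u ∈ cen c) := by
  obtain ⟨K, hK, hKS⟩ := exists_lift p (S : Subgroup PSpm) S.isPGroup'
  obtain ⟨c, hc, hfix⟩ : ∃ c : Vm, c ≠ 0 ∧ ∀ s ∈ K, act s c = c := by
    haveI : Nonempty (Fin m ⊕ Fin m) := ⟨Sum.inl ⟨0, hm⟩⟩
    obtain ⟨v, hv0, hv⟩ := exists_fixed (F := F) p hK (M := Vm) (fun s x => act (s : Spm) x)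
      (fun x => act_one x) (fun s t x => act_mul _ _ x) (fun s => act_zero _)
    exact ⟨v, hv0, fun s hs => hv ⟨s, hs⟩⟩
  have hnorm : K ≤ Subgroup.normalizer (rad c : Set Spm) := fun s hs => by
    refine Subgroup.mem_normalizer_iff.2 fun u => ⟨fun hu => ?_, fun hu => ?_⟩
    · have := rad_conj s hu
      rwa [hfix s hs] at this
    · have := rad_conj s⁻¹ hu
      rw [hfix s⁻¹ (inv_mem hs)] at this
      simpa [mul_assoc] using this
  have hsup : IsPGroup p (K ⊔ rad c : Subgroup Spm) := by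
    refine IsPGroup.to_sup_of_normal_right' hK (fun s => ⟨2, Subtype.ext ?_⟩) hnorm
    exact rad_pow' p hc s.2
  have hmap : (K ⊔ rad c).map π = (S : Subgroup PSpm) :=
    S.is_maximal' (hsup.map _) (hKS ▸ Subgroup.map_mono le_sup_left)
  have hfix' : ∀ s ∈ K ⊔ rad c, act s c = c := fun s hs => by
    have : K ⊔ rad c ≤
        ({ carrier := {s : Spm | act s c = c}
           one_mem' := act_one c
           mul_mem' := fun {a b} (ha : act a c = c) (hb : act b c = c) =>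
            show act (a * b) c = c by rw [act_mul, hb, ha]
           inv_mem' := fun {a} (ha : act a c = c) => show act a⁻¹ c = c by
            conv_lhs => rw [← ha]
            exact act_inv_act a c } : Subgroup Spm) :=
      sup_le (fun s hs => hfix s hs) (fun s hs => hs.1)
    exact this hs
  have hrad : radQ c ≤ (S : Subgroup PSpm) := hmap ▸ Subgroup.map_mono le_sup_right
  refine ⟨c, hc, hrad, ?_, ?_, ?_⟩
  · rintro _ ⟨s, hs, rfl⟩
    refine Subgroup.mem_centralizer_iff.2 fun y hy => ?_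
    obtain ⟨t, ht, rfl⟩ := hmap ▸ hy
    have : t * s = s * t := ext_act fun x => by
      obtain ⟨l, hl⟩ := hs
      rw [act_mul, act_mul, hl, hl, act_add, act_smul, hfix' t ht]
      congr 3
      conv_rhs => rw [← hfix' t ht]
      exact (act_pres t _ _).symm
    rw [← map_mul, ← map_mul, this]
  · intro u T hu huS
    obtain ⟨t, ht, e⟩ := hmap ▸ huS
    obtain ⟨T', hT'⟩ := hsup ⟨t, ht⟩
    obtain rfl := eq_of_mk_eq p (congrArg Subtype.val hT') hu e
    exact hfix' _ ht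
  · intro z hzS hzC
    obtain ⟨z, hz, rfl⟩ := hmap ▸ hzS
    obtain ⟨Fr, rfl⟩ := Frame.exists_of_ne hc
    have hcomm : ∀ u ∈ rad Fr.e, Commute z u := fun u hu =>
      commute_of_mk p (rad_pow' p hc hu)
        (Subgroup.mem_centralizer_iff.1 hzC _ (hrad (Subgroup.mem_map_of_mem _ hu))).symm
    have hze := hfix' z hz
    obtain ⟨u, hu, huf⟩ := Fr.exists_rad_of_point (y := act z Fr.f) (by
        conv_lhs => rw [← hze]
        exact (act_pres z _ _).trans Fr.hfe)
    obtain ⟨l, rfl⟩ : ∃ l, z = u * l := ⟨u⁻¹ * z, (mul_inv_cancel_left _ _).symm⟩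
    have hle : act l Fr.e = Fr.e := act_inj u (by rw [← act_mul, hze, hu.1])
    have hlf : act l Fr.f = Fr.f := act_inj u (by rw [← act_mul, huf])
    have hlW : ∀ v ∈ Fr.W, act l v = v := fun v hv => by
      obtain ⟨w, hw, rfl⟩ := Fr.exists_wt hv
      have hlP : ∀ x, Fr.P (act l x) = act l (Fr.P x) := fun x => by
        rw [Frame.P, Frame.P, act_sub, act_add, act_smul, act_smul, hle, hlf]
        have e1 : B (act l x) Fr.f = B x Fr.f := by
          conv_lhs => rw [← hlf]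
          exact act_pres l _ _
        have e2 : B (act l x) Fr.e = B x Fr.e := by
          conv_lhs => rw [← hle]
          exact act_pres l _ _
        rw [e1, e2]
      have hlrad : l * w * l⁻¹ ∈ rad Fr.e := by
        have := rad_conj l hw
        rwa [hle] at this
      have e1 : u * (l * w * l⁻¹) = w * u := by
        have := (hcomm w hw).eq
        calc u * (l * w * l⁻¹) = u * l * w * l⁻¹ := by group
          _ = w * (u * l) * l⁻¹ := by rw [this]
          _ = w * u := by group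
      have e2 := congrArg Fr.wt e1
      rw [Fr.wt_mul hu hlrad, Fr.wt_mul hw hu, add_comm (Fr.wt w)] at e2
      have e3 := add_left_cancel e2
      rw [← e3]
      conv_lhs => rw [e3]
      have hlf' : act l⁻¹ Fr.f = Fr.f := by
        conv_lhs => rw [← hlf]
        exact act_inv_act l _
      rw [Frame.wt, Frame.wt, act_mul, act_mul, hlf', hlP]
    have hl1 : l = 1 := Fr.ext_frame (by rw [hle, act_one]) (by rw [hlf, act_one])
      fun v hv => by rw [hlW v hv, act_one]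
    subst hl1
    rw [mul_one] at hcomm ⊢
    refine ⟨u, hu, rfl, fun h2 => (Fr.mem_cen_iff_wt).2 ⟨hu, ?_⟩⟩
    by_contra h0
    obtain ⟨w₀, hw₀, hw₁⟩ := Fr.exists_W_one (Fr.wt_mem u) h0
    obtain ⟨w, hw, hwe⟩ := Fr.exists_wt hw₀
    have e1 := congrArg Fr.al (hcomm w hw).eq
    rw [Fr.al_mul hu hw, Fr.al_mul hw hu, hwe, swap (Fr.wt u) w₀, hw₁] at e1
    exact h2 (by linear_combination -e1)

theorem exists_sylow (hm : 1 ≤ m) {c : Vm} (hc : c ≠ 0) : ∃ S : Sylow p PSpm,
    radQ c ≤ S ∧ cenQ c ≤ Subgroup.centralizer ((S : Subgroup PSpm) : Set PSpm) := by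
  have hrp : IsPGroup p (rad c) := fun s => ⟨2, Subtype.ext (rad_pow' p hc s.2)⟩
  obtain ⟨S, hS⟩ := (show IsPGroup p (radQ c) from hrp.map _).exists_le_sylow
  obtain ⟨d, hd, -, hdC, hfix, -⟩ := center_sylow p hm S
  obtain ⟨Fr, rfl⟩ := Frame.exists_of_ne hc
  have hfixd : ∀ u ∈ rad Fr.e, act u d = d := fun u hu =>
    hfix u 2 (Fr.rad_pow p hu) (hS (Subgroup.mem_map_of_mem _ hu))
  have hde : B d Fr.e = 0 := by
    obtain ⟨s, hs⟩ := exists_tv Fr.e (1 : F)
    have e := hfixd s (cen_le_rad _ ⟨1, hs⟩)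
    rw [hs, add_eq_left, one_mul, smul_eq_zero] at e
    exact e.resolve_right Fr.e_ne_zero
  have hP : Fr.P d = 0 := Fr.W_nondeg (Fr.P_mem d) fun v hv => by
    obtain ⟨u, hu, rfl⟩ := Fr.exists_wt hv
    have := hfixd u hu
    conv_lhs at this => rw [Fr.decomp d, hde, zero_smul, add_zero, act_add, act_smul, hu.1,
      Fr.act_W hu (Fr.P_mem d)]
    conv_rhs at this => rw [Fr.decomp d, hde, zero_smul, add_zero]
    simpa [Fr.e_ne_zero] using this
  obtain ⟨a, hade⟩ : ∃ a : F, d = a • Fr.e := by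
    refine ⟨-B d Fr.f, ?_⟩
    conv_lhs => rw [Fr.decomp d, hde, hP, zero_smul, add_zero, add_zero]
  have ha0 : a ≠ 0 := fun e0 => hd (by rw [hade, e0, zero_smul])
  refine ⟨S, hS, ?_⟩
  rw [hade, cenQ_smul ha0] at hdC
  exact hdC

/-- An automorphism sends points to points. -/
theorem exists_rel (hm : 1 ≤ m) (hm2 : (2 : F) ≠ 0 ∨ 3 ≤ m) (β : MulAut PSpm) {c : Vm} (hc : c ≠ 0) :
    ∃ d : Vm, d ≠ 0 ∧ Rel β c d := by
  obtain ⟨S, hS, hSc⟩ := exists_sylow p hm hc
  have hsur : Function.Surjective β.toMonoidHom := β.surjective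
  obtain ⟨S', hS'⟩ : ∃ S' : Sylow p PSpm,
      (S' : Subgroup PSpm) = (S : Subgroup PSpm).map β.toMonoidHom :=
    ⟨S.mapSurjective hsur, Sylow.coe_mapSurjective hsur S⟩
  obtain ⟨d, hd, -, -, -, hcent⟩ := center_sylow p hm S'
  have hle : (cenQ c).map β.toMonoidHom ≤ cenQ d := by
    rintro _ ⟨_, ⟨t, ht, rfl⟩, rfl⟩
    have hmem : β (π t) ∈ (S' : Subgroup PSpm) := hS' ▸ Subgroup.mem_map_of_mem β.toMonoidHom
      (hS (Subgroup.mem_map_of_mem _ (cen_le_rad c ht)))
    have hcomm : β (π t) ∈ Subgroup.centralizer ((S' : Subgroup PSpm) : Set PSpm) := by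
      refine Subgroup.mem_centralizer_iff.2 fun y hy => ?_
      obtain ⟨y, hy', rfl⟩ := hS' ▸ hy
      exact (map_mul β _ _).symm.trans ((congrArg β
        (Subgroup.mem_centralizer_iff.1 (hSc (Subgroup.mem_map_of_mem _ ht)) y hy')).trans
          (map_mul β _ _))
    obtain ⟨u, hu, hπ, hu2⟩ := hcent _ hmem hcomm
    refine ⟨u, ?_, hπ⟩
    by_cases h2 : (2 : F) = 0
    swap
    · exact hu2 h2
    obtain ⟨Fr, rfl⟩ := Frame.exists_of_ne hd
    refine Fr.mem_cen_iff_wt.2 ⟨hu, ?_⟩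
    by_contra h0
    have ht1 : t ≠ 1 := fun e => by
      have hu1 : u = 1 := eq_of_mk_eq p (Fr.rad_pow p hu) (one_pow (p ^ 2))
        (show π u = π 1 by rw [hπ, e, map_one, map_one])
      exact h0 (by rw [hu1, Fr.wt_one])
    have hlt := Fr.card_centralizer_lt h2 (hm2.resolve_left (not_not_intro h2)) hu h0 hc ht ht1
    have hiso : (Subgroup.centralizer ({(QuotientGroup.mk t : PSpm)} : Set PSpm)).map β.toMonoidHom =
        Subgroup.centralizer ({(QuotientGroup.mk u : PSpm)} : Set PSpm) := by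
      have e : β (QuotientGroup.mk t) = (QuotientGroup.mk u : PSpm) := hπ.symm
      ext y
      simp only [Subgroup.mem_map, Subgroup.mem_centralizer_singleton_iff]
      constructor
      · rintro ⟨x, hx, rfl⟩
        rw [← e]
        exact (map_mul β _ _).symm.trans ((congrArg β hx).trans (map_mul β _ _))
      · intro hy
        obtain ⟨x, rfl⟩ := β.surjective y
        exact ⟨x, β.injective (by rw [map_mul, map_mul, e]; exact hy), rfl⟩
    have hcard := Nat.card_congr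
      (Subgroup.equivMapOfInjective (Subgroup.centralizer ({(QuotientGroup.mk t : PSpm)} : Set PSpm))
        β.toMonoidHom β.injective).toEquiv
    rw [hiso, card_centralizer_mk h2, card_centralizer_mk h2] at hcard
    omega
  refine ⟨d, hd, Subgroup.eq_of_le_of_card_ge hle ?_⟩
  rw [Subgroup.card_map_of_injective β.injective, card_cenQ p hc, card_cenQ p hd]

theorem rel_unique {β : MulAut PSpm} {c d d' : Vm} (hd : d ≠ 0) (hd' : d' ≠ 0) (h1 : Rel β c d)
    (h2 : Rel β c d') : ∃ a : F, a ≠ 0 ∧ d' = a • d :=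
  eq_smul_of_cenQ p hd hd' (h1.symm.trans h2)

theorem rel_unique' {β : MulAut PSpm} {c c' d : Vm} (hc : c ≠ 0) (hc' : c' ≠ 0) (h1 : Rel β c d)
    (h2 : Rel β c' d) : ∃ a : F, a ≠ 0 ∧ c' = a • c :=
  rel_unique p hc hc' (rel_symm h1) (rel_symm h2)

theorem orth_iff {c d : Vm} (hc : c ≠ 0) (hd : d ≠ 0) :
    B c d = 0 ↔ ∀ x ∈ cenQ c, ∀ y ∈ cenQ d, Commute x y := by
  constructor
  · rintro hcd _ ⟨s, hs, rfl⟩ _ ⟨t, ht, rfl⟩
    refine Commute.map (?_ : Commute s t) π
    obtain ⟨l, hl⟩ := hs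
    obtain ⟨k, hk⟩ := ht
    refine ext_act fun x => ?_
    simp only [act_mul, hl, hk, add_left, smul_left, hcd, eq_zero_comm.1 hcd, mul_zero, add_zero]
    module
  · intro H
    by_contra hcd
    obtain ⟨s, hs⟩ := exists_tv c (1 : F)
    obtain ⟨t, ht⟩ := exists_tv d (1 : F)
    have e : Commute s t := commute_of_mk p (cen_pow' p hd ⟨1, ht⟩)
      (H _ (Subgroup.mem_map_of_mem _ ⟨1, hs⟩) _ (Subgroup.mem_map_of_mem _ ⟨1, ht⟩))
    have e1 := congrArg (fun g : Spm => act g c) e.eq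
    simp only [act_mul, hs, ht, self_zero, mul_zero, zero_smul, add_zero] at e1
    rw [add_eq_left, smul_eq_zero, add_left, smul_left, self_zero, zero_add] at e1
    have hdc : B d c ≠ 0 := fun e0 => hcd (eq_zero_comm.1 e0)
    simp [hcd, hdc, hc] at e1

theorem rel_orth {β : MulAut PSpm} {c c' d d' : Vm} (hc : c ≠ 0) (hc' : c' ≠ 0) (hd : d ≠ 0)
    (hd' : d' ≠ 0) (h1 : Rel β c d) (h2 : Rel β c' d') : B c c' = 0 ↔ B d d' = 0 := by
  rw [orth_iff p hc hc', orth_iff p hd hd', ← h1, ← h2]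
  constructor
  · rintro H _ ⟨x, hx, rfl⟩ _ ⟨y, hy, rfl⟩
    exact (H x hx y hy).map _
  · intro H x hx y hy
    exact β.injective ((map_mul β x y).trans
      ((H _ ⟨x, hx, rfl⟩ _ ⟨y, hy, rfl⟩).eq.trans (map_mul β y x).symm))

end Cfsg.Agent.AutPSp
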