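import Cfsg.Agent.Lib.AutPSp.Points

/-!
The stabiliser of a pair of points, the invariance of the radical and the semilinearity of the weight map.
-/

set_option autoImplicit false

namespace Cfsg.Agent.AutPSp

open Matrix

variable {F : Type*} [Field F] {m : ℕ}

local notation "Vm" => Fin m ⊕ Fin m → F
local notation "Spm" => Matrix.symplecticGroup (Fin m) F
local notation "PSpm" => Cfsg.PSp m F
local notation "π" => QuotientGroup.mk' (Subgroup.center Spm)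

namespace Frame

variable (Fr : Frame F m)

/-- Membership in the stabiliser of the pair, with multiplier `d`. -/
def InL (s : Spm) (d : F) : Prop :=
  d ≠ 0 ∧ act s Fr.e = d • Fr.e ∧ act s Fr.f = d⁻¹ • Fr.f

theorem mem_InL_of {s : Spm} {a b : F} (he : act s Fr.e = a • Fr.e) (hf : act s Fr.f = b • Fr.f) :
    Fr.InL s a := by
  have e1 := act_pres s Fr.f Fr.e
  rw [he, hf, smul_left, smul_right, Fr.hfe, mul_one] at e1
  have ha : a ≠ 0 := fun e0 => by simp [e0] at e1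
  exact ⟨ha, he, by rw [hf, ← eq_inv_of_mul_eq_one_left e1]⟩

theorem InL.mapsTo {s : Spm} {d : F} (hs : Fr.InL s d) {v : Vm} (hv : v ∈ Fr.W) : act s v ∈ Fr.W := by
  obtain ⟨hd, he, hf⟩ := hs
  constructor
  · have e1 := act_pres s v Fr.e
    rw [he, smul_right, hv.1, mul_eq_zero] at e1
    exact e1.resolve_left hd
  · have e1 := act_pres s v Fr.f
    rw [hf, smul_right, hv.2, mul_eq_zero] at e1
    exact e1.resolve_left (inv_ne_zero hd)

theorem InL.P_act {s : Spm} {d : F} (hs : Fr.InL s d) (x : Vm) : Fr.P (act s x) = act s (Fr.P x) := by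
  refine (Fr.coord (hs.mapsTo Fr (Fr.P_mem x)) (a := -B x Fr.f * d) (b := B x Fr.e * d⁻¹) ?_).2.2
  conv_lhs => rw [Fr.decomp x]
  rw [act_add, act_add, act_smul, act_smul, hs.2.1, hs.2.2, smul_smul, smul_smul]

theorem InL.conj_rad {s : Spm} {d : F} (hs : Fr.InL s d) {u : Spm} (hu : u ∈ rad Fr.e) :
    s * u * s⁻¹ ∈ rad Fr.e ∧ Fr.wt (s * u * s⁻¹) = d • act s (Fr.wt u) ∧
      Fr.al (s * u * s⁻¹) = d * d * Fr.al u := by
  obtain ⟨hd, he, hf⟩ := hs
  refine ⟨by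
    have := rad_conj s hu
    rwa [he, rad_smul hd] at this, ?_⟩
  have hi : act s⁻¹ Fr.f = d • Fr.f := act_inj s (by
    rw [act_act_inv, act_smul, hf, smul_inv_smul₀ hd] at *)
  have e1 : act (s * u * s⁻¹) Fr.f = (d * d * Fr.al u) • Fr.e + (1 : F) • Fr.f +
      d • act s (Fr.wt u) := by
    rw [act_mul, act_mul, hi, act_smul, act_smul, Fr.act_f hu, act_add, act_add, act_smul, he, hf,
      smul_add, smul_add, smul_smul, smul_smul, smul_smul, mul_inv_cancel₀ hd]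
    congr 3
    ring
  have := Fr.coord (Submodule.smul_mem _ _ (InL.mapsTo Fr ⟨hd, he, hf⟩ (Fr.wt_mem u))) e1
  exact ⟨this.2.2, by rw [Frame.al, this.1, neg_neg]⟩

theorem InL.inv {s : Spm} {d : F} (hs : Fr.InL s d) : Fr.InL s⁻¹ d⁻¹ := by
  obtain ⟨hd, he, hf⟩ := hs
  refine Fr.mem_InL_of (b := d) (act_inj s ?_) (act_inj s ?_)
  · rw [act_act_inv, act_smul, he, inv_smul_smul₀ hd]
  · rw [act_act_inv, act_smul, hf, smul_inv_smul₀ hd]

/-- The diagonal elements. -/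
theorem exists_InL_diag {d : F} (hd : d ≠ 0) :
    ∃ s : Spm, Fr.InL s d ∧ ∀ v ∈ Fr.W, act s v = v := by
  obtain ⟨D, hD⟩ : ∃ D, D = Transvec.tvMat ((1 - d) • Fr.e) (form Fr.f) *
      Transvec.tvMat ((d⁻¹ - 1) • Fr.f) (form Fr.e) := ⟨_, rfl⟩
  have hDx : ∀ x, D *ᵥ x = (-(d * B x Fr.f)) • Fr.e + (d⁻¹ * B x Fr.e) • Fr.f + Fr.P x := by
    intro x
    rw [hD, ← Matrix.mulVec_mulVec, Transvec.tvMat_mulVec, Transvec.tvMat_mulVec, form_apply,
      form_apply, add_left, smul_left, smul_left, self_zero, mul_zero, mul_zero, add_zero, Frame.P]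
    module
  obtain ⟨s, hs⟩ := exists_Sp D fun x y => by
    obtain ⟨x1, x2, x3⟩ := Fr.coord (Fr.P_mem x) (hDx x)
    obtain ⟨y1, y2, y3⟩ := Fr.coord (Fr.P_mem y) (hDx y)
    rw [Fr.B_decomp (D *ᵥ x), x1, x2, x3, y1, y2, y3, Fr.B_decomp x y]
    field_simp
  refine ⟨s, Fr.mem_InL_of (a := d) (b := d⁻¹) ?_ ?_, fun v hv => ?_⟩
  · rw [hs, hDx, self_zero, Fr.hef, Fr.P_e]; simp
  · rw [hs, hDx, self_zero, Fr.hfe, Fr.P_f]; simp
  · rw [hs, hDx, hv.1, hv.2, Fr.P_of_mem hv]; simp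

/-- The transvections of the orthogonal. -/
theorem exists_InL_tv {w : Vm} (hw : w ∈ Fr.W) (l : F) :
    ∃ s : Spm, Fr.InL s 1 ∧ ∀ x, act s x = x + (l * B x w) • w := by
  obtain ⟨s, hs⟩ := exists_tv w l
  refine ⟨s, Fr.mem_InL_of (b := 1) ?_ ?_, hs⟩
  · rw [hs, eq_zero_comm.1 hw.1]; simp
  · rw [hs, eq_zero_comm.1 hw.2]; simp

/-- Only scalars commute with the action of the stabiliser on the radical. -/
theorem scalar_of_comm (T : Vm → Vm) (hT : ∀ x ∈ Fr.W, T x ∈ Fr.W)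
    (hadd : ∀ x ∈ Fr.W, ∀ y ∈ Fr.W, T (x + y) = T x + T y)
    (hcomm : ∀ s d, Fr.InL s d → ∀ x ∈ Fr.W, T (d • act s x) = d • act s (T x)) :
    ∃ t : F, ∀ x ∈ Fr.W, T x = t • x := by
  have h0 : T 0 = 0 := by
    have := hadd 0 (zero_mem _) 0 (zero_mem _)
    simpa using this
  have hsm : ∀ (a : F), ∀ x ∈ Fr.W, T (a • x) = a • T x := by
    intro a x hx
    rcases eq_or_ne a 0 with rfl | ha
    · rw [zero_smul, zero_smul, h0]
    obtain ⟨s, hs, hsv⟩ := Fr.exists_InL_diag ha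
    have := hcomm s a hs x hx
    rwa [hsv x hx, hsv _ (hT x hx)] at this
  have htv : ∀ w ∈ Fr.W, ∀ x ∈ Fr.W, B x w • T w = B (T x) w • w := by
    intro w hw x hx
    obtain ⟨s, hs, hsx⟩ := Fr.exists_InL_tv hw 1
    have := hcomm s 1 hs x hx
    rw [one_smul, one_smul, hsx, hsx, one_mul, one_mul, hadd _ hx _ (Submodule.smul_mem _ _ hw),
      hsm _ _ hw, add_right_inj] at this
    exact this
  by_cases hW : ∀ w ∈ Fr.W, w = 0
  · exact ⟨1, fun x hx => by rw [hW x hx, h0, smul_zero]⟩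
  push Not at hW
  obtain ⟨w₁, hw₁, hw₁0⟩ := hW
  obtain ⟨x₁, hx₁, hx₁'⟩ := Fr.exists_W_one hw₁ hw₁0
  have hline : ∀ w ∈ Fr.W, w ≠ 0 → ∃ t : F, T w = t • w ∧ ∀ x ∈ Fr.W, B (T x) w = t * B x w := by
    intro w hw hw0
    obtain ⟨x, hx, hwx⟩ := Fr.exists_W_one hw hw0
    have hxw : B x w = -1 := by rw [swap w x, hwx]
    have e := htv w hw x hx
    rw [hxw, neg_one_smul, neg_eq_iff_eq_neg, ← neg_smul] at e
    refine ⟨_, e, fun y hy => ?_⟩
    have e1 := htv w hw y hy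
    rw [e, smul_smul] at e1
    rw [← smul_left_injective F hw0 e1, mul_comm]
  obtain ⟨t, ht, htB⟩ := hline w₁ hw₁ hw₁0
  have hx0 : x₁ ≠ 0 := fun e => by rw [e, zero_right] at hx₁'; exact zero_ne_one hx₁'
  refine ⟨t, fun x hx => ?_⟩
  refine Fr.W_eq_of_forall (hT x hx) (Submodule.smul_mem _ _ hx) fun w hw => ?_
  rw [smul_left]
  rcases eq_or_ne w 0 with rfl | hw0
  · rw [zero_right, zero_right, mul_zero]
  obtain ⟨t', ht', htB'⟩ := hline w hw hw0
  rw [htB' x hx]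
  congr 1
  -- the eigenvalues agree
  by_cases hs : B w w₁ = 0
  · obtain ⟨y, hy, hy1, hy2⟩ : ∃ y ∈ Fr.W, B y w₁ ≠ 0 ∧ B y w ≠ 0 := by
      obtain ⟨z, hz, hz'⟩ := Fr.exists_W_one hw hw0
      have hz'' : B z w = -1 := by rw [swap w z, hz']
      have hx'' : B x₁ w₁ = -1 := by rw [swap w₁ x₁, hx₁']
      by_cases h3 : B x₁ w = 0
      · by_cases h4 : B z w₁ = 0
        · exact ⟨x₁ + z, add_mem hx₁ hz, by simp [add_left, hx'', h4], by simp [add_left, hz'', h3]⟩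
        · exact ⟨z, hz, h4, by simp [hz'']⟩
      · exact ⟨x₁, hx₁, by simp [hx''], h3⟩
    have hy0 : y ≠ 0 := fun e => hy1 (by rw [e, zero_left])
    obtain ⟨t'', ht'', -⟩ := hline y hy hy0
    have a1 := htB y hy
    have a2 := htB' y hy
    rw [ht'', smul_left] at a1 a2
    rw [← mul_right_cancel₀ hy2 a2, mul_right_cancel₀ hy1 a1]
  · have := htB w hw
    rw [ht', smul_left] at this
    exact mul_right_cancel₀ hs this

end Frame

variable [Finite F] (p : ℕ) [Fact p.Prime] [CharP F p] (Fr : Frame F m)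
include p

omit [Finite F] in
theorem Frame.rad_mk_inj {u v : Spm} (hu : u ∈ rad Fr.e) (hv : v ∈ rad Fr.e) (e : π u = π v) :
    u = v :=
  eq_of_mk_eq p (Fr.rad_pow p hu) (Fr.rad_pow p hv) e

/-- A normal `p`-subgroup of the stabiliser of a point lies in the radical. -/
theorem Frame.le_radQ (hm : 2 ≤ m) (H : Subgroup PSpm) (hH : IsPGroup p H)
    (hstab : ∀ s : Spm, π s ∈ H → ∃ a : F, act s Fr.e = a • Fr.e)
    (hnorm : ∀ s d, Fr.InL s d → ∀ x ∈ H, π s * x * (π s)⁻¹ ∈ H) : H ≤ radQ Fr.e := by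
  obtain ⟨K, hK, rfl⟩ := exists_lift p H hH
  have hKpow : ∀ s ∈ K, ∃ k, s ^ p ^ k = 1 := fun s hs => by
    obtain ⟨k, hk⟩ := hK ⟨s, hs⟩
    exact ⟨k, congrArg Subtype.val hk⟩
  have hfixe : ∀ s ∈ K, act s Fr.e = Fr.e := fun s hs => by
    obtain ⟨a, ha⟩ := hstab s (Subgroup.mem_map_of_mem _ hs)
    obtain ⟨k, hk⟩ := hKpow s hs
    have h2 : ∀ j : ℕ, act (s ^ j) Fr.e = a ^ j • Fr.e := by
      intro j
      induction j with
      | zero => rw [pow_zero, act_one, pow_zero, one_smul]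
      | succ j ih => rw [pow_succ, act_mul, ha, act_smul, ih, smul_smul, pow_succ']
    have h3 := h2 (p ^ k)
    rw [hk, act_one] at h3
    have ha2 : a = 1 := eq_one_of_pow_char p (T := k) (smul_left_injective F Fr.e_ne_zero
      (by simpa using h3.symm))
    rw [ha, ha2, one_smul]
  have hperp : ∀ s ∈ K, ∀ w, B w Fr.e = 0 → B (act s w) Fr.e = 0 := fun s hs w hw => by
    conv_lhs => rw [← hfixe s hs]
    exact (act_pres _ _ _).trans hw
  have hPlin : ∀ w, B w Fr.e = 0 → w = (-B w Fr.f) • Fr.e + Fr.P w := fun w hw => by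
    conv_lhs => rw [Fr.decomp w, hw, zero_smul, add_zero]
  have hPact : ∀ s ∈ K, ∀ w, B w Fr.e = 0 → Fr.P (act s (Fr.P w)) = Fr.P (act s w) :=
    fun s hs w hw => by
      conv_rhs => rw [hPlin w hw]
      rw [act_add, act_smul, hfixe s hs, Fr.P_add, Fr.P_smul, Fr.P_e, smul_zero, zero_add]
  obtain ⟨v₀, hv₀, hv₀0⟩ := Fr.exists_W_ne_zero hm
  haveI : Nontrivial Fr.W := ⟨⟨⟨v₀, hv₀⟩, 0, fun e => hv₀0 (congrArg Subtype.val e)⟩⟩
  obtain ⟨act', hact'⟩ : ∃ act' : K → Fr.W → Fr.W,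
      ∀ (s : K) (x : Fr.W), (act' s x : Vm) = Fr.P (act (s : Spm) (x : Vm)) :=
    ⟨fun s x => ⟨Fr.P (act (s : Spm) (x : Vm)), Fr.P_mem _⟩, fun _ _ => rfl⟩
  have h1 : ∀ x, act' 1 x = x := fun x => Subtype.ext (by
    rw [hact', OneMemClass.coe_one, act_one, Fr.P_of_mem x.2])
  have hmul : ∀ s t x, act' (s * t) x = act' s (act' t x) := fun s t x => Subtype.ext (by
    rw [hact', hact', hact', Subgroup.coe_mul, act_mul, hPact _ s.2 _ (hperp _ t.2 _ x.2.1)])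
  have h0 : ∀ s, act' s 0 = 0 := fun s => Subtype.ext (by
    rw [hact', ZeroMemClass.coe_zero, act_zero, Fr.P_of_mem (zero_mem _)])
  obtain ⟨w₀, hw₀, hw₀fix⟩ := exists_fixed (F := F) p hK (M := Fr.W) act' h1 hmul h0
  obtain ⟨M, hM⟩ : ∃ M : Submodule F Vm, ∀ x, x ∈ M ↔ x ∈ Fr.W ∧ ∀ s ∈ K, Fr.P (act s x) = x :=
    ⟨{ carrier := {x | x ∈ Fr.W ∧ ∀ s ∈ K, Fr.P (act s x) = x}
       add_mem' := fun {a b} ha hb => ⟨add_mem ha.1 hb.1, fun s hs => by
        rw [act_add, Fr.P_add, ha.2 s hs, hb.2 s hs]⟩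
       zero_mem' := ⟨zero_mem _, fun s _ => by rw [act_zero, Fr.P_of_mem (zero_mem _)]⟩
       smul_mem' := fun c a ha => ⟨Submodule.smul_mem _ _ ha.1, fun s hs => by
        rw [act_smul, Fr.P_smul, ha.2 s hs]⟩ }, fun x => Iff.rfl⟩
  have hinv : ∀ s d, Fr.InL s d → ∀ x ∈ M, act s x ∈ M := by
    intro s d hs x hx
    rw [hM] at hx ⊢
    refine ⟨hs.mapsTo Fr hx.1, fun k hk => ?_⟩
    obtain ⟨k', hk', e⟩ : π (s⁻¹ * k * s) ∈ K.map π := by
      have := hnorm s⁻¹ d⁻¹ (hs.inv Fr) (π k) (Subgroup.mem_map_of_mem _ hk)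
      rwa [map_inv, inv_inv, ← map_inv, ← map_mul, ← map_mul] at this
    obtain ⟨j, hj⟩ := hKpow k' hk'
    obtain ⟨j', hj'⟩ := hKpow k hk
    have hcp : (s⁻¹ * k * s) ^ p ^ j' = 1 := by
      have := conj_pow_eq_one hj' s⁻¹
      rwa [inv_inv] at this
    obtain rfl := eq_of_mk_eq p hj hcp e
    have e2 := hx.2 _ hk'
    rw [act_mul, act_mul] at e2
    have e3 := congrArg (act s) e2
    rwa [← hs.P_act Fr, act_act_inv] at e3
  have hW : ∀ w ∈ Fr.W, w ∈ M := by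
    have hw₀M : (w₀ : Vm) ∈ M := (hM _).2 ⟨w₀.2, fun s hs => by rw [← hact' ⟨s, hs⟩, hw₀fix]⟩
    have key : ∀ w ∈ Fr.W, B (w₀ : Vm) w ≠ 0 → w ∈ M := by
      intro w hw hne
      obtain ⟨s, hs, hsx⟩ := Fr.exists_InL_tv hw 1
      have := M.sub_mem (hinv s _ hs _ hw₀M) hw₀M
      rw [hsx, add_sub_cancel_left, one_mul] at this
      exact (Submodule.smul_mem_iff M hne).1 this
    intro w hw
    obtain ⟨w₁, hw₁, hw₁'⟩ := Fr.exists_W_one w₀.2 (fun e => hw₀ (Subtype.ext e))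
    by_cases hne : B (w₀ : Vm) w = 0
    · have := M.sub_mem (key _ (add_mem hw hw₁) (by rw [add_right, hne, zero_add, hw₁']; exact one_ne_zero))
        (key _ hw₁ (by rw [hw₁']; exact one_ne_zero))
      rwa [add_sub_cancel_right] at this
    · exact key w hw hne
  refine Subgroup.map_mono fun s hs => ⟨hfixe s hs, fun w hw => ⟨-B (act s (Fr.P w)) Fr.f, ?_⟩⟩
  have e := hPlin (act s (Fr.P w)) (hperp s hs _ (Fr.P_mem w).1)
  rw [((hM _).1 (hW _ (Fr.P_mem w))).2 s hs] at e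
  conv_lhs => rw [hPlin w hw, act_add, act_smul, hfixe s hs, e]
  conv_rhs => arg 1; rw [hPlin w hw]
  abel

/-- An automorphism fixing a point fixes the radical. -/
theorem Frame.map_radQ (hm : 2 ≤ m) {β : MulAut PSpm} (he : Rel β Fr.e Fr.e) :
    (radQ Fr.e).map β.toMonoidHom = radQ Fr.e := by
  have hie := Fr.e_ne_zero
  have hrp : IsPGroup p (rad Fr.e) := fun s => ⟨2, Subtype.ext (Fr.rad_pow p s.2)⟩
  have hle : (radQ Fr.e).map β.toMonoidHom ≤ radQ Fr.e := by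
    refine Fr.le_radQ p hm _ ((IsPGroup.map hrp _).map _) ?_ ?_
    · rintro t ⟨-, ⟨u, hu, rfl⟩, e⟩
      have h1 := rel_compat he (s := u) (t := t) e
      rw [hu.1] at h1
      obtain ⟨a, -, ha⟩ := rel_unique p hie (act_ne_zero t hie) he h1
      exact ⟨a, ha⟩
    · rintro s d ⟨hd, hse, -⟩ x hx
      obtain ⟨x', hx', rfl⟩ := hx
      obtain ⟨s', hs'⟩ := QuotientGroup.mk'_surjective _ (β.symm (π s))
      have hs'' : β (π s') = π s := by rw [hs', MulEquiv.apply_symm_apply]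
      have h1 := rel_compat he (s := s') (t := s) hs''
      rw [hse] at h1
      have h2 : Rel β (act s' Fr.e) Fr.e := by
        rw [Rel] at h1 ⊢
        rwa [cenQ_smul hd] at h1
      obtain ⟨a, ha0, ha⟩ := rel_unique' p hie (act_ne_zero s' hie) he h2
      refine ⟨π s' * x' * (π s')⁻¹, ?_, ?_⟩
      · obtain ⟨u, hu, rfl⟩ := hx'
        refine ⟨s' * u * s'⁻¹, ?_, by rw [map_mul, map_mul, map_inv]⟩
        have := rad_conj s' hu
        rwa [ha, rad_smul ha0] at this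
      · show β _ = _
        rw [map_mul, map_mul, map_inv, hs'']
        rfl
  exact Subgroup.eq_of_le_of_card_ge hle (Subgroup.card_map_of_injective β.injective).ge

end Cfsg.Agent.AutPSp
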